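import Mathlib
import Groth.Agent.AbsApprox.Main
/-!
A finite type model of a morphism, containing prescribed sections on prescribed affine opens.
-/
universe u
open AlgebraicGeometry CategoryTheory CategoryTheory.Limits TopologicalSpace Opposite
set_option backward.isDefEq.respectTransparency false
set_option autoImplicit false

namespace Groth.Agent.LocImmFT

variable {I : Type u} [SmallCategory I] [IsCofiltered I] (D : I ⥤ Scheme.{u})
  [∀ {i j} (f : i ⟶ j), IsAffineHom (D.map f)]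

theorem exists_section_stage (c : Cone D) (hc : IsLimit c) (i : I) {U : (D.obj i).Opens} (hU : IsAffineOpen U)
    (e : Γ(c.pt, c.π.app i ⁻¹ᵁ U)) :
    ∃ (j : Over i) (h : c.π.app i ⁻¹ᵁ U ≤ c.π.app j.left ⁻¹ᵁ (D.map j.hom ⁻¹ᵁ U))
      (u : Γ(D.obj j.left, D.map j.hom ⁻¹ᵁ U)),
      (c.π.app j.left).appLE (D.map j.hom ⁻¹ᵁ U) (c.π.app i ⁻¹ᵁ U) h u = e := by
  haveI (j : Over i) : IsAffine ((opensDiagram D i U).obj j) := hU.preimage (D.map j.hom)
  obtain ⟨j, s, hs⟩ := exists_appTop_π_eq_of_isAffine_of_isLimit _ _ (isLimitOpensCone D c hc i U)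
    ((c.π.app i ⁻¹ᵁ U).topIso.inv e)
  obtain ⟨s, rfl⟩ := (D.map j.hom ⁻¹ᵁ U).topIso.symm.commRingCatIsoToRingEquiv.surjective s
  have h : c.π.app j.left ⁻¹ᵁ D.map j.hom ⁻¹ᵁ U = c.π.app i ⁻¹ᵁ U := congr($(c.w j.hom) ⁻¹ᵁ U)
  refine ⟨j, h.ge, s, Eq.symm ?_⟩
  convert!
    show e = ((Scheme.Opens.topIso _).inv ≫ ((opensCone D c i U).π.app j).appTop ≫ (Scheme.Opens.topIso _).hom) s from
      (c.π.app i ⁻¹ᵁ U).topIso.commRingCatIsoToRingEquiv.symm_apply_eq.mp hs.symm using 3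
  simp [Scheme.Hom.app_eq_appLE, Scheme.Hom.resLE_appLE]

/-- a quasi-compact open of the limit which is affine comes from an affine open of some stage -/
theorem exists_affine_stage [∀ i, CompactSpace (D.obj i)] [∀ i, QuasiSeparatedSpace (D.obj i)] (c : Cone D) (hc : IsLimit c)
    (O : c.pt.Opens) (hO : IsAffineOpen O) :
    ∃ (i : I) (U : (D.obj i).Opens), IsAffineOpen U ∧ c.π.app i ⁻¹ᵁ U = O := by
  obtain ⟨i, U, hU, hUO⟩ := exists_preimage_eq D c hc O hO.isCompact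
  have (k : Over i) : CompactSpace ((opensDiagram D i U).obj k) :=
    isCompact_iff_compactSpace.mp (QuasiCompact.isCompact_preimage (f := D.map k.hom) _ U.2 hU)
  have (k : Over i) : QuasiSeparatedSpace ((opensDiagram D i U).obj k) :=
    (isQuasiSeparated_iff_quasiSeparatedSpace _ (D.map k.hom ⁻¹ᵁ U).2).mp (.of_quasiSeparatedSpace _)
  have : IsAffine (opensCone D c i U).pt := show IsAffineOpen (c.π.app i ⁻¹ᵁ U) from hUO ▸ hO
  obtain ⟨k, hk⟩ := Scheme.exists_isAffine_of_isLimit _ _ (isLimitOpensCone D c hc i U)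
  refine ⟨k.left, D.map k.hom ⁻¹ᵁ U, hk, ?_⟩
  rw [← hUO]
  exact congr($(c.w k.hom) ⁻¹ᵁ U)

end Groth.Agent.LocImmFT

namespace Groth.Agent.LocImmFT

theorem appLE_apply_congr {X Y : Scheme.{u}} {f f' : X ⟶ Y} (h : f = f') {U : Y.Opens} {V : X.Opens}
    (e : V ≤ f ⁻¹ᵁ U) (u : Γ(Y, U)) : f.appLE U V e u = f'.appLE U V (h ▸ e) u := by
  subst h; rfl

/-- a model of finite type of `f`, in which the given affine opens descend to affine opens whose rings
contain the prescribed sections -/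
theorem exists_model {X S : Scheme.{u}} [CompactSpace X] [QuasiSeparatedSpace X] [CompactSpace S] [QuasiSeparatedSpace S]
    (f : X ⟶ S) {ι : Type u} [Finite ι] (W : ι → S.Opens) (hW : ∀ a, IsAffineOpen (W a)) (O : ι → X.Opens)
    (hOaff : ∀ a, IsAffineOpen (O a)) (hle : ∀ a, O a ≤ f ⁻¹ᵁ W a) (hcov : ⨆ a, O a = ⊤)
    (E : ∀ a, Finset Γ(X, O a)) :
    ∃ (Y : Scheme.{u}) (k : X ⟶ Y) (p : Y ⟶ S) (U' : ι → Y.Opens), k ≫ p = f ∧ LocallyOfFiniteType p ∧
      QuasiCompact p ∧ QuasiSeparated p ∧ QuasiCompact k ∧ IsDominant k ∧ ⨆ a, U' a = ⊤ ∧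
      ∀ a, IsAffineOpen (U' a) ∧ U' a ≤ p ⁻¹ᵁ W a ∧ k ⁻¹ᵁ U' a = O a ∧ ∃ h : O a ≤ k ⁻¹ᵁ U' a,
        Function.Injective (k.appLE (U' a) (O a) h) ∧ ∀ e ∈ E a, e ∈ (k.appLE (U' a) (O a) h).hom.range := by
  classical
  cases nonempty_fintype ι
  obtain ⟨I, _, _, _, D, π, hl, h1, h2, -⟩ := AbsApprox.hasApprox X
  haveI : IsCofiltered Iᵒᵖ := isCofiltered_op_of_isFiltered _
  haveI : ∀ {i j : Iᵒᵖ} (φ : i ⟶ j), IsAffineHom (D.map φ) := fun φ => h1 _ _ φ
  haveI : ∀ i, CompactSpace (D.obj i) := fun i => (h2 i).1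
  haveI : ∀ i, QuasiSeparatedSpace (D.obj i) := fun i => AbsApprox.quasiSeparatedSpace_of_lft (h2 i).2
  have hπaff : ∀ i, IsAffineHom (π.app i) := fun i => isAffineHom_π_app D (Cone.mk X π) hl i
  have hπw : ∀ {i j : Iᵒᵖ} (φ : i ⟶ j), π.app i ≫ D.map φ = π.app j := fun φ => (Cone.mk X π).w φ
  choose i U hU hUO using fun a => exists_affine_stage D (Cone.mk X π) hl (O a) (hOaff a)
  have hsec : ∀ a (e : Γ(X, O a)), ∃ (le : Over (i a)) (h : O a ≤ π.app le.left ⁻¹ᵁ (D.map le.hom ⁻¹ᵁ U a))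
      (u : Γ(D.obj le.left, D.map le.hom ⁻¹ᵁ U a)), (π.app le.left).appLE _ (O a) h u = e := by
    intro a
    rw [← hUO a]
    exact exists_section_stage D (Cone.mk X π) hl (i a) (hU a)
  choose le hhe ue hue using hsec
  have hstage : ∀ a, ∃ l : Over (i a), ∀ (m : Iᵒᵖ) (ψ : m ⟶ l.left), ∀ e ∈ E a,
      ∃ (h : O a ≤ π.app m ⁻¹ᵁ (D.map (ψ ≫ l.hom) ⁻¹ᵁ U a)) (v : Γ(D.obj m, D.map (ψ ≫ l.hom) ⁻¹ᵁ U a)),
        (π.app m).appLE _ (O a) h v = e := by
    intro a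
    obtain ⟨m₀, hm₀⟩ := IsCofiltered.inf_objs_exists (insert (Over.mk (𝟙 (i a))) ((E a).image (le a)))
    refine ⟨m₀, fun m ψ e he => ?_⟩
    let η : Over.mk (ψ ≫ m₀.hom) ⟶ le a e :=
      (Over.homMk ψ rfl : Over.mk (ψ ≫ m₀.hom) ⟶ m₀) ≫
        (hm₀ (Finset.mem_insert_of_mem (Finset.mem_image_of_mem (le a) he))).some
    have hη : η.left ≫ (le a e).hom = ψ ≫ m₀.hom := Over.w η
    have hη' : D.map (ψ ≫ m₀.hom) ⁻¹ᵁ U a ≤ D.map η.left ⁻¹ᵁ (D.map (le a e).hom ⁻¹ᵁ U a) := by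
      rw [← Scheme.Hom.comp_preimage, ← D.map_comp, hη]
    have hO : O a ≤ π.app m ⁻¹ᵁ (D.map (ψ ≫ m₀.hom) ⁻¹ᵁ U a) := by
      rw [← Scheme.Hom.comp_preimage, hπw]
      exact (hUO a).ge
    refine ⟨hO, (D.map η.left).appLE _ _ hη' (ue a e), ?_⟩
    refine ((CommRingCat.comp_apply _ _ _).symm.trans
      (congr($(Scheme.Hom.appLE_comp_appLE (π.app m) (D.map η.left) _ _ _ hη' hO).hom (ue a e)))).trans ?_
    exact (appLE_apply_congr (hπw η.left) _ (ue a e)).trans (hue a e)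
  choose l hl' using hstage
  obtain ⟨m, hm⟩ := IsCofiltered.inf_objs_exists (Finset.univ.image fun a => (l a).left)
  let ψ : ∀ a, m ⟶ (l a).left := fun a =>
    (hm (Finset.mem_image_of_mem (fun a => (l a).left) (Finset.mem_univ a))).some
  let tD := Limits.IsTerminal.from specULiftZIsTerminal (D.obj m)
  let tS := Limits.IsTerminal.from specULiftZIsTerminal S
  haveI : LocallyOfFiniteType tD := (h2 m).2
  haveI : QuasiCompact tD := quasiCompact_of_compactSpace _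
  let T := Limits.pullback tD tS
  let t : T ⟶ S := pullback.snd tD tS
  haveI : QuasiSeparated tD := QuasiSeparated.of_quasiSeparatedSpace _
  haveI : QuasiSeparatedSpace T := quasiSeparatedSpace_of_quasiSeparated t
  let j : X ⟶ T := pullback.lift (π.app m) f (specULiftZIsTerminal.hom_ext _ _)
  let Um : ι → (D.obj m).Opens := fun x => D.map (ψ x ≫ (l x).hom) ⁻¹ᵁ U x
  let P : ι → T.Opens := fun x => pullback.fst tD tS ⁻¹ᵁ Um x ⊓ pullback.snd tD tS ⁻¹ᵁ W x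
  have hPj : ∀ x : ι, j ⁻¹ᵁ P x = O x := fun x => by
    have e1 : π.app m ⁻¹ᵁ Um x = O x := by rw [← Scheme.Hom.comp_preimage, hπw]; exact hUO x
    have e2 : j ⁻¹ᵁ (pullback.fst tD tS ⁻¹ᵁ Um x) = π.app m ⁻¹ᵁ Um x := by
      rw [← Scheme.Hom.comp_preimage, pullback.lift_fst]
    have e3 : j ⁻¹ᵁ (pullback.snd tD tS ⁻¹ᵁ W x) = f ⁻¹ᵁ W x := by
      rw [← Scheme.Hom.comp_preimage, pullback.lift_snd]
    rw [Scheme.Hom.preimage_inf]
    refine ((congrArg₂ (· ⊓ ·) (e2.trans e1) e3)).trans ?_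
    exact inf_eq_left.2 (hle x)
  have hPaff : ∀ x : ι, IsAffineOpen (P x) := fun x => by
    haveI : IsAffine (Um x).toScheme := (hU x).preimage (D.map (ψ x ≫ (l x).hom))
    haveI : IsAffine (W x).toScheme := hW x
    let q : Limits.pullback ((Um x).ι ≫ tD) ((W x).ι ≫ tS) ⟶ T :=
      pullback.map _ _ _ _ (Um x).ι (W x).ι (𝟙 _) (by simp) (by simp)
    have hq : q.opensRange = P x := TopologicalSpace.Opens.ext (by
      rw [Scheme.Hom.coe_opensRange, Scheme.Pullback.range_map, Scheme.Opens.range_ι, Scheme.Opens.range_ι]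
      rfl)
    exact hq ▸ isAffineOpen_opensRange q
  let Ω : T.Opens := ⨆ x, P x
  have hjΩ : Set.range j ⊆ Set.range Ω.ι := by
    rintro _ ⟨y, rfl⟩
    rw [Scheme.Opens.range_ι]
    obtain ⟨x, hxy⟩ := TopologicalSpace.Opens.mem_iSup.1 (hcov.ge (Set.mem_univ y) : y ∈ ⨆ a, O a)
    exact TopologicalSpace.Opens.mem_iSup.2 ⟨x, ((hPj x).symm ▸ hxy : y ∈ j ⁻¹ᵁ P x)⟩
  let g : X ⟶ Ω.toScheme := IsOpenImmersion.lift Ω.ι j hjΩ
  have hg : g ≫ Ω.ι = j := IsOpenImmersion.lift_fac _ _ _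
  haveI : CompactSpace Ω.toScheme := isCompact_iff_compactSpace.mp (by
    rw [TopologicalSpace.Opens.coe_iSup]; exact isCompact_iUnion fun x => (hPaff x).isCompact)
  haveI : QuasiSeparatedSpace Ω.toScheme := quasiSeparatedSpace_of_quasiSeparated Ω.ι
  haveI : QuasiCompact g := QuasiCompact.of_comp g (terminal.from _)
  let Y := g.image
  let k : X ⟶ Y := g.toImage
  let inc : Y ⟶ Ω.toScheme := g.imageι
  have hkι : k ≫ inc = g := g.toImage_imageι
  haveI : CompactSpace Y := QuasiCompact.compactSpace_of_compactSpace inc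
  haveI : QuasiSeparatedSpace Y := quasiSeparatedSpace_of_quasiSeparated inc
  let p : Y ⟶ S := inc ≫ Ω.ι ≫ t
  have hkp : k ≫ p = f := by
    simp only [p]; rw [reassoc_of% hkι, reassoc_of% hg]; exact pullback.lift_snd _ _ _
  haveI : LocallyOfFiniteType p := inferInstance
  haveI : QuasiSeparatedSpace S := inferInstance
  haveI : QuasiCompact p := QuasiCompact.of_comp p (terminal.from S)
  haveI : QuasiSeparated p := QuasiSeparated.of_quasiSeparatedSpace _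
  refine ⟨Y, k, p, fun a => inc ⁻¹ᵁ (Ω.ι ⁻¹ᵁ P a), hkp, inferInstance, inferInstance, inferInstance, inferInstance,
    inferInstance, ?_, fun x => ?_⟩
  · rw [← Scheme.Hom.preimage_iSup, ← Scheme.Hom.preimage_iSup]
    rw [show Ω.ι ⁻¹ᵁ (⨆ a, P a) = ⊤ from Ω.ι_preimage_self]
    rfl
  let Pa := Ω.ι ⁻¹ᵁ P x
  have hPa : IsAffineOpen Pa :=
    (hPaff x).preimage_of_isOpenImmersion Ω.ι (by rw [Scheme.Opens.opensRange_ι]; exact le_iSup P x)
  have hpre : k ⁻¹ᵁ (inc ⁻¹ᵁ Pa) = O x := by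
    rw [← Scheme.Hom.comp_preimage, hkι, ← Scheme.Hom.comp_preimage, hg, hPj]
  refine ⟨hPa.preimage inc, fun y hy => hy.2, hpre, hpre.ge, ?_, fun e he => ?_⟩
  · intro c₁ c₂ h12
    rw [Scheme.Hom.appLE, CommRingCat.comp_apply, CommRingCat.comp_apply] at h12
    apply g.toImage_app_injective ⟨Pa, hPa⟩
    haveI : IsIso (X.presheaf.map (homOfLE hpre.ge).op) := by
      have : IsIso (homOfLE hpre.ge) := ⟨homOfLE hpre.le, Subsingleton.elim _ _, Subsingleton.elim _ _⟩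
      infer_instance
    exact ((ConcreteCategory.isIso_iff_bijective _).1 this).1 h12
  · obtain ⟨hO', v, rfl⟩ := hl' x m (ψ x) e he
    have h' : P x ≤ pullback.fst tD tS ⁻¹ᵁ Um x := inf_le_left
    let d := (pullback.fst tD tS).appLE (Um x) (P x) h' v
    refine ⟨inc.app Pa (Ω.ι.app (P x) d), ?_⟩
    simp only [d]
    rw [Scheme.Hom.app_eq_appLE, Scheme.Hom.app_eq_appLE, ← CommRingCat.comp_apply, ← CommRingCat.comp_apply,
      ← CommRingCat.comp_apply, Scheme.Hom.appLE_comp_appLE, Scheme.Hom.appLE_comp_appLE, Scheme.Hom.appLE_comp_appLE]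
    refine appLE_apply_congr ?_ _ v
    rw [hkι, hg]
    exact pullback.lift_fst _ _ _

end Groth.Agent.LocImmFT
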