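import Mathlib
import Groth.Agent.LocImmB.Basic
import Groth.Agent.DomLib.Basic
/-!
A model of finite type of a separated scheme becomes separated near the image of a localizing
immersion.
-/
universe u
open AlgebraicGeometry CategoryTheory CategoryTheory.Limits TopologicalSpace
set_option backward.isDefEq.respectTransparency false
set_option autoImplicit false

namespace Groth.Agent.LocImmFT

/-- a closed set no point of which has both projections in a set stable under generalization is avoided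
by the square of an open neighbourhood of that set -/
theorem exists_open_avoid {P Y : Scheme.{u}} [IsNoetherian P] {R : Set Y} (hR : StableUnderGeneralization R)
    (p₁ p₂ : P ⟶ Y) {Z : Set P} (hZ : IsClosed Z) (h : ∀ z ∈ Z, p₁ z ∉ R ∨ p₂ z ∉ R) :
    ∃ O : Y.Opens, R ⊆ (O : Set Y) ∧ ∀ z ∈ Z, p₁ z ∉ O ∨ p₂ z ∉ O := by
  classical
  obtain ⟨T, hTf, hTi, hT⟩ := NoetherianSpace.exists_finite_set_closeds_irreducible (⟨Z, hZ⟩ : TopologicalSpace.Closeds P)
  have hη : ∀ C : T, ∃ y : Y, y ∉ R ∧ ∀ z ∈ C.1, p₁ z ∈ closure {y} ∨ p₂ z ∈ closure {y} := by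
    rintro ⟨C, hC⟩
    have hgp := (hTi C hC).isGenericPoint_genericPoint C.isClosed
    have hmem : (hTi C hC).genericPoint ∈ Z := by
      have h1 : C ≤ ⟨Z, hZ⟩ := hT ▸ le_sSup hC
      exact h1 hgp.mem
    rcases h _ hmem with h | h
    · exact ⟨_, h, fun z hz => Or.inl (specializes_iff_mem_closure.1 ((hgp.specializes hz).map p₁.continuous))⟩
    · exact ⟨_, h, fun z hz => Or.inr (specializes_iff_mem_closure.1 ((hgp.specializes hz).map p₂.continuous))⟩
  choose yC hyC hyC' using hη
  haveI : Finite T := hTf.to_subtype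
  refine ⟨⟨(⋃ C : T, closure {yC C})ᶜ, (isClosed_iUnion_of_finite fun _ => isClosed_closure).isOpen_compl⟩, ?_, fun z hz => ?_⟩
  · intro r hr hmem
    obtain ⟨C, hC'⟩ := Set.mem_iUnion.1 hmem
    exact hyC C (hR (specializes_iff_mem_closure.2 hC') hr)
  · have hz' : z ∈ (↑(sSup T) : Set P) := hT ▸ hz
    let W : TopologicalSpace.Closeds P := ⟨⋃ C : T, (C.1 : Set P), isClosed_iUnion_of_finite fun C => C.1.isClosed⟩
    have hle : sSup T ≤ W := sSup_le fun C hC => fun x hx => Set.mem_iUnion.2 ⟨⟨C, hC⟩, hx⟩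
    obtain ⟨C, hzC⟩ := Set.mem_iUnion.1 (hle hz')
    rcases hyC' C _ hzC with h | h
    · exact Or.inl fun hO => hO (Set.mem_iUnion.2 ⟨C, h⟩)
    · exact Or.inr fun hO => hO (Set.mem_iUnion.2 ⟨C, h⟩)

theorem exists_open_isSeparated {X Y S : Scheme.{u}} [IsNoetherian X] [IsNoetherian Y] [IsLocallyNoetherian S]
    (k : X ⟶ Y) (p : Y ⟶ S) (hk : LocImm.IsLocImmersion k) [LocallyOfFiniteType p] [QuasiCompact p]
    [IsSeparated (k ≫ p)] :
    ∃ O : Y.Opens, Set.range k ⊆ (O : Set Y) ∧ IsSeparated (O.ι ≫ p) := by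
  classical
  haveI := LocImmB.flat hk.1
  haveI := LocImmB.mono hk
  let P := pullback p p
  let Δ : Y ⟶ P := pullback.diagonal p
  haveI : IsImmersion Δ := inferInstanceAs (IsImmersion (pullback.diagonal p))
  haveI : IsLocallyNoetherian P := LocallyOfFiniteType.isLocallyNoetherian (pullback.fst p p)
  haveI : CompactSpace P := QuasiCompact.compactSpace_of_compactSpace (pullback.fst p p)
  haveI : IsNoetherian P := ⟨⟩
  have hZc : IsClosed (coborder (Set.range Δ))ᶜ := Δ.isLocallyClosed_range.isOpen_coborder.isClosed_compl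
  let Z : TopologicalSpace.Closeds P := ⟨(coborder (Set.range Δ))ᶜ, hZc⟩
  have memZ : ∀ z : P, z ∈ Z ↔ z ∈ closure (Set.range Δ) ∧ z ∉ Set.range Δ := fun z => by
    show z ∈ (coborder (Set.range Δ))ᶜ ↔ _
    rw [coborder_eq_union_closure_compl, Set.compl_union, compl_compl, Set.mem_inter_iff, Set.mem_compl_iff]
    exact and_comm
  have hgen : StableUnderGeneralization (Set.range k) := LocImmB.stableUnderGeneralization_range k
  let E : pullback (k ≫ p) (k ≫ p) ⟶ P := pullback.map _ _ _ _ k k (𝟙 S) (by simp) (by simp)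
  haveI : Flat E := MorphismProperty.pullbackMap (P := @Flat) (inferInstance : Flat k) (inferInstance : Flat k) rfl rfl
  haveI : Mono E := ⟨fun a b h => by
    apply pullback.hom_ext
    · rw [← cancel_mono k]; simpa [E] using congrArg (· ≫ pullback.fst p p) h
    · rw [← cancel_mono k]; simpa [E] using congrArg (· ≫ pullback.snd p p) h⟩
  have key : ∀ z ∈ Z, pullback.fst p p z ∉ Set.range k ∨ pullback.snd p p z ∉ Set.range k := by
    intro z hz
    by_contra hcon
    push Not at hcon
    obtain ⟨h1, h2⟩ := hcon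
    obtain ⟨hzcl, hznot⟩ := (memZ z).1 hz
    obtain ⟨w, hw⟩ := DomLib.exists_specializes Δ hzcl
    have hfw : pullback.fst p p (Δ w) = w := by
      rw [← Scheme.Hom.comp_apply]; simp [Δ]
    have hwz : w ⤳ pullback.fst p p z := by
      have := hw.map (pullback.fst p p).continuous
      rwa [hfw] at this
    obtain ⟨a, rfl⟩ := hgen hwz h1
    obtain ⟨e, he⟩ : z ∈ Set.range E := by
      rw [Scheme.Pullback.range_map]; exact ⟨h1, h2⟩
    subst he
    obtain ⟨e', he', hEe'⟩ := (Flat.generalizingMap (f := E)) hw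
    have hda : E (pullback.diagonal (k ≫ p) a) = Δ (k a) := by
      rw [← Scheme.Hom.comp_apply, ← Scheme.Hom.comp_apply]
      congr 5
      apply pullback.hom_ext <;> simp [E, Δ]
    have hinj : Function.Injective E := LocImmB.injective_of_mono E
    rw [hinj (hEe'.trans hda.symm)] at he'
    obtain ⟨c, rfl⟩ := he'.mem_closed (pullback.diagonal (k ≫ p)).isClosedEmbedding.isClosed_range ⟨a, rfl⟩
    refine hznot ⟨k c, ?_⟩
    rw [← Scheme.Hom.comp_apply, ← Scheme.Hom.comp_apply]
    congr 5
    apply pullback.hom_ext <;> simp [E, Δ]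
  obtain ⟨O, hkO, hO⟩ := exists_open_avoid hgen (pullback.fst p p) (pullback.snd p p) hZc key
  refine ⟨O, hkO, ?_⟩
  · haveI : IsImmersion (pullback.diagonal (O.ι ≫ p)) := inferInstance
    refine ⟨IsClosedImmersion.of_isPreimmersion _ ?_⟩
    let EO : pullback (O.ι ≫ p) (O.ι ≫ p) ⟶ P := pullback.map _ _ _ _ O.ι O.ι (𝟙 S) (by simp) (by simp)
    haveI : Mono EO := ⟨fun a b h => by
      apply pullback.hom_ext
      · rw [← cancel_mono O.ι]; simpa [EO] using congrArg (· ≫ pullback.fst p p) h
      · rw [← cancel_mono O.ι]; simpa [EO] using congrArg (· ≫ pullback.snd p p) h⟩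
    have hcomm : pullback.diagonal (O.ι ≫ p) ≫ EO = O.ι ≫ Δ := by
      apply pullback.hom_ext <;> simp [EO, Δ]
    suffices h : Set.range (pullback.diagonal (O.ι ≫ p)) = EO ⁻¹' closure (Set.range Δ) by
      rw [h]; exact isClosed_closure.preimage EO.continuous
    refine subset_antisymm (Set.range_subset_iff.2 fun y => subset_closure ⟨O.ι y, ?_⟩) fun q hq => ?_
    · exact (congr($hcomm y) : _).symm
    · have h1 : pullback.fst p p (EO q) ∈ O := by
        rw [← Scheme.Hom.comp_apply, show EO ≫ pullback.fst p p = pullback.fst _ _ ≫ O.ι from pullback.lift_fst _ _ _]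
        exact (pullback.fst (O.ι ≫ p) (O.ι ≫ p) q).2
      have h2 : pullback.snd p p (EO q) ∈ O := by
        rw [← Scheme.Hom.comp_apply, show EO ≫ pullback.snd p p = pullback.snd _ _ ≫ O.ι from pullback.lift_snd _ _ _]
        exact (pullback.snd (O.ι ≫ p) (O.ι ≫ p) q).2
      have hr : EO q ∈ Set.range Δ := by
        by_contra hcon
        have hz : EO q ∈ Z := (memZ _).2 ⟨hq, hcon⟩
        exact (hO _ hz).elim (fun h => h h1) (fun h => h h2)
      obtain ⟨y, hy⟩ := hr
      have hfy : pullback.fst p p (Δ y) = y := by rw [← Scheme.Hom.comp_apply]; simp [Δ]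
      rw [← hy, hfy] at h1
      refine ⟨⟨y, h1⟩, LocImmB.injective_of_mono EO ?_⟩
      rw [← hy]
      exact congr($hcomm ⟨y, h1⟩)

end Groth.Agent.LocImmFT
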