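import Groth.Agent.LocImmFT.Gens
import Groth.Agent.LocImmFT.Sep
import Groth.Agent.LocImmB.More
import Groth.Agent.LocImmFT.Model
import Groth.Prelude.Def_EssFT
/-!
A separated morphism essentially of finite type of noetherian schemes is a localizing immersion
followed by a separated morphism of finite type.
-/
universe u
open AlgebraicGeometry CategoryTheory CategoryTheory.Limits TopologicalSpace Opposite
set_option backward.isDefEq.respectTransparency false
set_option autoImplicit false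

namespace Groth.Agent.LocImmFT

theorem isLocHom_of_surjective {A C D : Type u} [CommRing A] [CommRing C] [CommRing D] (ψ : A →+* C)
    (φ : C →+* D) (hψ : Function.Surjective ψ) (h : LocImm.IsLocHom (φ.comp ψ)) : LocImm.IsLocHom φ := by
  letI := φ.toAlgebra
  letI := ψ.toAlgebra
  letI := (φ.comp ψ).toAlgebra
  obtain ⟨S, hS⟩ := h
  refine ⟨S.map ψ, { map_units := ?_, surj := ?_, exists_of_eq := ?_ }⟩
  · rintro ⟨_, s, hs, rfl⟩
    exact IsLocalization.map_units D (⟨s, hs⟩ : S)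
  · intro d
    obtain ⟨⟨a, s⟩, h⟩ := IsLocalization.surj S d
    exact ⟨⟨ψ a, ⟨ψ s, s, s.2, rfl⟩⟩, h⟩
  · intro a b hab
    obtain ⟨a, rfl⟩ := hψ a
    obtain ⟨b, rfl⟩ := hψ b
    obtain ⟨c, hc⟩ := IsLocalization.exists_of_eq (M := S) (S := D) hab
    exact ⟨⟨ψ c, c, c.2, rfl⟩, by simp only [← map_mul, hc]⟩

theorem isNoetherian_opens {Y : Scheme.{u}} [IsNoetherian Y] (V : Y.Opens) : IsNoetherian V.toScheme :=
  haveI := isLocallyNoetherian_of_isOpenImmersion V.ι
  haveI : CompactSpace V.toScheme := isCompact_iff_compactSpace.mp (TopologicalSpace.NoetherianSpace.isCompact _)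
  ⟨⟩

theorem isLocImmersion_lift {X Y : Scheme.{u}} [IsNoetherian X] (k : X ⟶ Y) (hk : LocImm.IsLocImmersion k) (V : Y.Opens)
    (hV : Set.range k ⊆ Set.range V.ι) : LocImm.IsLocImmersion (IsOpenImmersion.lift V.ι k hV) := by
  refine ⟨fun x => ?_, fun x y h => hk.2 ?_⟩
  · obtain ⟨U₁, hxU₁, hU₁V, hU₁, hpre₁, hloc₁⟩ := Groth.Agent.LocImmB.exists_affine_nhd hk x V (by have := hV ⟨x, rfl⟩; rwa [Scheme.Opens.range_ι] at this)
    have hA : IsAffineOpen (V.ι ⁻¹ᵁ U₁) := hU₁.preimage_of_isOpenImmersion V.ι (by rw [Scheme.Opens.opensRange_ι]; exact hU₁V)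
    have e : k ⁻¹ᵁ U₁ ≤ (IsOpenImmersion.lift V.ι k hV) ⁻¹ᵁ (V.ι ⁻¹ᵁ U₁) := by
      rw [← Scheme.Hom.comp_preimage, IsOpenImmersion.lift_fac]
    refine ⟨⟨_, hA⟩, ⟨_, hpre₁⟩, hxU₁, e, ?_⟩
    have hinjA : Function.Bijective (V.ι.app U₁) := (ConcreteCategory.isIso_iff_bijective _).1
      (Scheme.Hom.isIso_app V.ι U₁ (by rw [Scheme.Opens.opensRange_ι]; exact hU₁V))
    have hcomp : ((IsOpenImmersion.lift V.ι k hV).appLE _ _ e).hom.comp (V.ι.app U₁).hom = (k.app U₁).hom := by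
      rw [← CommRingCat.hom_comp, Scheme.Hom.app_eq_appLE, Scheme.Hom.app_eq_appLE, Scheme.Hom.appLE_comp_appLE]
      congr 2
      exact IsOpenImmersion.lift_fac _ _ _
    exact isLocHom_of_surjective (V.ι.app U₁).hom _ hinjA.2 (hcomp ▸ hloc₁)
  · rw [← IsOpenImmersion.lift_fac V.ι k hV, Scheme.Hom.comp_apply, Scheme.Hom.comp_apply]
    exact congrArg V.ι h

theorem exists_locImmersion_finiteType {X S : Scheme.{u}} [IsNoetherian X] [IsLocallyNoetherian S]
    [QuasiSeparatedSpace S] [CompactSpace S] (f : X ⟶ S) [IsSeparated f] [EssFT.LocallyEssFiniteType f] :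
    ∃ (Y : Scheme.{u}) (k : X ⟶ Y) (p : Y ⟶ S), IsNoetherian Y ∧ LocImm.IsLocImmersion k ∧
      IsSeparated p ∧ LocallyOfFiniteType p ∧ QuasiCompact p ∧ k ≫ p = f := by
  classical
  choose W V hxV e heft using EssFT.LocallyEssFiniteType.exists_appLE_essFiniteType (f := f)
  choose E hE using fun x => exists_gens (heft x)
  obtain ⟨s, hs⟩ := isCompact_univ.elim_finite_subcover (fun x => ((V x).1 : Set X))
    (fun x => (V x).1.2) (fun x _ => Set.mem_iUnion.2 ⟨x, hxV x⟩)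
  have hcov : ⨆ a : s, (V a.1).1 = ⊤ := top_le_iff.1 fun x _ => by
    obtain ⟨a, ha, hxa⟩ := Set.mem_iUnion₂.1 (hs (Set.mem_univ x))
    exact TopologicalSpace.Opens.mem_iSup.2 ⟨⟨a, ha⟩, hxa⟩
  obtain ⟨Y, k, p, U', hkp, hlft, hqc, -, -, -, -, hU'⟩ := exists_model f (fun a : s => (W a.1).1) (fun a => (W a.1).2)
    (fun a => (V a.1).1) (fun a => (V a.1).2) (fun a => e a.1) hcov (fun a => E a.1)
  haveI : IsLocallyNoetherian Y := LocallyOfFiniteType.isLocallyNoetherian p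
  haveI : CompactSpace Y := QuasiCompact.compactSpace_of_compactSpace p
  haveI : IsNoetherian Y := ⟨⟩
  have hloc : ∀ a : s, ∃ h, LocImm.IsLocHom (k.appLE (U' a) (V a.1).1 h).hom := by
    intro a
    obtain ⟨-, hUW, -, h, hinj, hmem⟩ := hU' a
    refine ⟨h, isLocHom_of_gens _ _ (E a.1) (hE a.1) hinj (fun r => ⟨p.appLE (W a.1).1 (U' a) hUW r, ?_⟩) hmem⟩
    rw [← CommRingCat.comp_apply, Scheme.Hom.appLE_comp_appLE]
    exact appLE_apply_congr hkp _ r
  choose hh hloc using hloc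
  have hk : LocImm.IsLocImmersion k := by
    have hc : ∀ x : X, ∃ a : s, x ∈ (V a.1).1 := fun x =>
      TopologicalSpace.Opens.mem_iSup.1 (hcov.ge (Set.mem_univ x) : x ∈ ⨆ a : s, (V a.1).1)
    refine ⟨fun x => ?_, fun x y hxy => ?_⟩
    · obtain ⟨a, ha⟩ := hc x
      exact ⟨⟨U' a, (hU' a).1⟩, V a.1, ha, hh a, hloc a⟩
    · obtain ⟨a, ha⟩ := hc x
      have hy : y ∈ (V a.1).1 := by
        rw [← (hU' a).2.2.1]
        show k y ∈ U' a
        have : k x ∈ U' a := hh a ha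
        rwa [show k x = k y from hxy] at this
      exact injOn_of_isLocHom k (hU' a).1 (V a.1).2 (hh a) (hloc a) ha hy hxy
  haveI : IsSeparated (k ≫ p) := hkp ▸ inferInstance
  obtain ⟨V, hkV, hsep⟩ := exists_open_isSeparated k p hk
  have hV : Set.range k ⊆ Set.range V.ι := by rwa [Scheme.Opens.range_ι]
  refine ⟨V.toScheme, IsOpenImmersion.lift V.ι k hV, V.ι ≫ p, isNoetherian_opens V, ?_, hsep, inferInstance, inferInstance, ?_⟩
  · exact isLocImmersion_lift k hk V hV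
  · rw [IsOpenImmersion.lift_fac_assoc, hkp]

end Groth.Agent.LocImmFT
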