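import Groth.Agent.LocImmFT.Model
import Groth.Agent.AbsApprox.Cofinal
/-!
A quasi-finite separated morphism of finite type over a quasi-compact quasi-separated base is an
open immersion followed by a finite morphism.
-/
universe u
open AlgebraicGeometry CategoryTheory CategoryTheory.Limits TopologicalSpace Opposite
set_option backward.isDefEq.respectTransparency false
set_option autoImplicit false

namespace Groth.Agent.LocImmFT

/-- an affine open in an affine scheme whose ring is finitely generated over `R` is covered by basic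
opens on which finitely many sections give all the others after inverting one of them -/
theorem exists_cover_basicOpen {N S : Scheme.{u}} {A : N.Opens} (hA : IsAffineOpen A) {W : S.Opens} (hW : IsAffineOpen W)
    (f : N ⟶ S) (hle : A ≤ f ⁻¹ᵁ W) {J : N.Opens} [LocallyOfFiniteType (J.ι ≫ f)] (x : N) (hxA : x ∈ A) (hxJ : x ∈ J) :
    ∃ (e : Γ(N, A)) (C : Finset Γ(N, A)), e ∈ C ∧ x ∈ N.basicOpen e ∧ N.basicOpen e ≤ J ∧
      ∀ s : Γ(N, A), ∃ (n : ℕ) (q : Γ(N, A)), q ∈ Subring.closure (Set.range (f.appLE W A hle) ∪ (C : Set Γ(N, A))) ∧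
        ∃ k : ℕ, e ^ k * (e ^ n * s - q) = 0 := by
  classical
  obtain ⟨e, he, hxe⟩ := hA.exists_basicOpen_le (V := J) ⟨x, hxJ⟩ hxA
  haveI : IsLocalization (Submonoid.powers e) Γ(N, N.basicOpen e) := hA.isLocalization_basicOpen e
  let φ := (f.appLE W (N.basicOpen e) ((N.basicOpen_le e).trans hle)).hom
  have hft : φ.FiniteType := by
    have hB : IsAffineOpen (J.ι ⁻¹ᵁ N.basicOpen e) :=
      (hA.basicOpen e).preimage_of_isOpenImmersion J.ι (by rw [Scheme.Opens.opensRange_ι]; exact he)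
    have hle' : J.ι ⁻¹ᵁ N.basicOpen e ≤ (J.ι ≫ f) ⁻¹ᵁ W := fun y hy => hle (N.basicOpen_le e hy)
    have hbij : Function.Bijective (J.ι.app (N.basicOpen e)) := (ConcreteCategory.isIso_iff_bijective _).1
      (Scheme.Hom.isIso_app J.ι (N.basicOpen e) (by rw [Scheme.Opens.opensRange_ι]; exact he))
    let r := RingEquiv.ofBijective (J.ι.app (N.basicOpen e)).hom hbij
    have h1 := LocallyOfFiniteType.finiteType_appLE (J.ι ≫ f) hW hB hle'
    have h2 : ((J.ι ≫ f).appLE W _ hle').hom = r.toRingHom.comp φ := by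
      show _ = (J.ι.app _).hom.comp φ
      rw [← CommRingCat.hom_comp, Scheme.Hom.app_eq_appLE, Scheme.Hom.appLE_comp_appLE]
    have h3 : φ = r.symm.toRingHom.comp ((J.ι ≫ f).appLE W _ hle').hom := by
      rw [h2]; ext; simp
    rw [h3]
    exact (RingHom.FiniteType.of_surjective _ r.symm.surjective).comp h1
  letI := φ.toAlgebra
  obtain ⟨σ, hσ⟩ := (RingHom.finiteType_algebraMap.1 hft : Algebra.FiniteType Γ(S, W) Γ(N, N.basicOpen e)).out
  have hnum : ∀ b : Γ(N, N.basicOpen e), ∃ c : Γ(N, A), ∃ n : ℕ,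
      b * algebraMap Γ(N, A) Γ(N, N.basicOpen e) (e ^ n) = algebraMap Γ(N, A) Γ(N, N.basicOpen e) c := fun b => by
    obtain ⟨⟨c, ⟨_, n, rfl⟩⟩, h⟩ := IsLocalization.surj (Submonoid.powers e) b
    exact ⟨c, n, h⟩
  choose cn nn hn using hnum
  let C : Finset Γ(N, A) := insert e (σ.image cn)
  refine ⟨e, C, Finset.mem_insert_self _ _, hxe, he, fun s => ?_⟩
  let R' := Subring.closure (Set.range (f.appLE W A hle) ∪ (C : Set Γ(N, A)))
  have heR : e ∈ R' := Subring.subset_closure (Or.inr (Finset.mem_insert_self _ _))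
  have key : ∀ b : Γ(N, N.basicOpen e), ∃ n : ℕ, ∃ q ∈ R',
      b * algebraMap Γ(N, A) Γ(N, N.basicOpen e) (e ^ n) = algebraMap Γ(N, A) Γ(N, N.basicOpen e) q := by
    intro b
    have hb : b ∈ Algebra.adjoin Γ(S, W) (σ : Set Γ(N, N.basicOpen e)) := hσ ▸ Algebra.mem_top
    induction hb using Algebra.adjoin_induction with
    | mem c hc => exact ⟨nn c, cn c, Subring.subset_closure (Or.inr (Finset.mem_insert_of_mem (Finset.mem_image_of_mem cn hc))), hn c⟩
    | algebraMap r =>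
      refine ⟨0, f.appLE W A hle r, Subring.subset_closure (Or.inl ⟨r, rfl⟩), ?_⟩
      rw [pow_zero, map_one, mul_one]
      show φ r = (N.presheaf.map (homOfLE (N.basicOpen_le e)).op).hom (f.appLE W A hle r)
      rw [← CommRingCat.comp_apply, Scheme.Hom.appLE_map]
    | add a b _ _ ha hb =>
      obtain ⟨m, p, hp, h1⟩ := ha
      obtain ⟨n, q, hq, h2⟩ := hb
      refine ⟨m + n, p * e ^ n + q * e ^ m, add_mem (mul_mem hp (pow_mem heR _)) (mul_mem hq (pow_mem heR _)), ?_⟩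
      rw [map_add, map_mul, map_mul, ← h1, ← h2, pow_add, map_mul]; ring
    | mul a b _ _ ha hb =>
      obtain ⟨m, p, hp, h1⟩ := ha
      obtain ⟨n, q, hq, h2⟩ := hb
      refine ⟨m + n, p * q, mul_mem hp hq, ?_⟩
      rw [map_mul, ← h1, ← h2, pow_add, map_mul]; ring
  obtain ⟨n, q, hq, h⟩ := key (algebraMap _ _ s)
  rw [← map_mul] at h
  obtain ⟨⟨_, k, rfl⟩, hk⟩ := IsLocalization.exists_of_eq (M := Submonoid.powers e) h
  refine ⟨n, q, hq, k, ?_⟩
  rw [mul_sub, mul_comm (e ^ n) s, show e ^ k * (s * e ^ n) = e ^ k * q from hk, sub_self]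

theorem preimage_basicOpen_appLE {X Y : Scheme.{u}} (f : X ⟶ Y) {U : Y.Opens} {V : X.Opens} (e : V ≤ f ⁻¹ᵁ U)
    (h : f ⁻¹ᵁ U = V) (u : Γ(Y, U)) : f ⁻¹ᵁ Y.basicOpen u = X.basicOpen (f.appLE U V e u) := by
  subst h
  rw [Scheme.preimage_basicOpen, Scheme.Hom.app_eq_appLE]

/-- an injective affine map with all sections becoming images after inverting `e` is an isomorphism
above the basic open of `e` -/
theorem isIso_morphismRestrict_basicOpen {X Y : Scheme.{u}} (f : X ⟶ Y) {U : Y.Opens} {V : X.Opens}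
    (hU : IsAffineOpen U) (hV : IsAffineOpen V) (h : V ≤ f ⁻¹ᵁ U) (hpre : f ⁻¹ᵁ U = V) (e : Γ(Y, U))
    (hinj : Function.Injective (f.appLE U V h))
    (hsurj : ∀ s : Γ(X, V), ∃ (n : ℕ) (r : Γ(Y, U)) (l : ℕ),
      (f.appLE U V h).hom e ^ l * ((f.appLE U V h).hom e ^ n * s - (f.appLE U V h).hom r) = 0) :
    IsIso (f ∣_ Y.basicOpen e) := by
  subst hpre
  let φ := (f.appLE U (f ⁻¹ᵁ U) h).hom
  haveI : IsLocalization (Submonoid.powers e) Γ(Y, Y.basicOpen e) := hU.isLocalization_basicOpen e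
  have hX : IsAffineOpen (f ⁻¹ᵁ Y.basicOpen e) := by
    rw [Scheme.preimage_basicOpen]; exact hV.basicOpen _
  refine AbsApprox.isIso_restrict f (hU.basicOpen e) hX ?_
  have hle : f ⁻¹ᵁ Y.basicOpen e ≤ f ⁻¹ᵁ U := fun z hz => Y.basicOpen_le e hz
  letI : Algebra Γ(X, f ⁻¹ᵁ U) Γ(X, f ⁻¹ᵁ Y.basicOpen e) := (X.presheaf.map (homOfLE hle).op).hom.toAlgebra
  haveI : IsLocalization (Submonoid.powers (φ e)) Γ(X, f ⁻¹ᵁ Y.basicOpen e) :=
    hV.isLocalization_of_eq_basicOpen (φ e) (homOfLE hle)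
      (by rw [Scheme.preimage_basicOpen]; exact congrArg X.basicOpen (by simp [φ, Scheme.Hom.app_eq_appLE]))
  have hsq : ∀ r : Γ(Y, U), (f.app (Y.basicOpen e)).hom (algebraMap Γ(Y, U) Γ(Y, Y.basicOpen e) r) =
      algebraMap Γ(X, f ⁻¹ᵁ U) Γ(X, f ⁻¹ᵁ Y.basicOpen e) (φ r) := by
    intro r
    show (Y.presheaf.map (homOfLE (Y.basicOpen_le e)).op ≫ f.app _) r =
      (f.appLE U (f ⁻¹ᵁ U) h ≫ X.presheaf.map (homOfLE hle).op) r
    rw [Scheme.Hom.app_eq_appLE, Scheme.Hom.map_appLE, Scheme.Hom.appLE_map]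
  constructor
  · refine (injective_iff_map_eq_zero _).2 fun b hb => ?_
    obtain ⟨⟨c, ⟨_, n, rfl⟩⟩, hc⟩ := IsLocalization.surj (Submonoid.powers e) b
    have h0 : algebraMap Γ(X, f ⁻¹ᵁ U) Γ(X, f ⁻¹ᵁ Y.basicOpen e) (φ c) = 0 := by
      have h1 := congrArg (f.app (Y.basicOpen e)).hom hc
      rw [map_mul, hsq, hsq, hb, zero_mul] at h1
      exact h1.symm
    obtain ⟨⟨_, l, rfl⟩, hl⟩ := (IsLocalization.map_eq_zero_iff (Submonoid.powers (φ e)) _ _).1 h0
    have hc0 : e ^ l * c = 0 := hinj (by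
      rw [map_zero, map_mul, map_pow]; exact hl)
    have hu : IsUnit (algebraMap Γ(Y, U) Γ(Y, Y.basicOpen e) (e ^ n)) :=
      IsLocalization.map_units _ (⟨_, n, rfl⟩ : Submonoid.powers e)
    have hc1 : algebraMap Γ(Y, U) Γ(Y, Y.basicOpen e) c = 0 :=
      (IsLocalization.map_eq_zero_iff (Submonoid.powers e) _ _).2 ⟨⟨_, l, rfl⟩, hc0⟩
    exact hu.mul_left_eq_zero.1 (hc.trans hc1)
  · intro b
    obtain ⟨⟨s, ⟨_, m, rfl⟩⟩, hs⟩ := IsLocalization.surj (Submonoid.powers (φ e)) b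
    obtain ⟨n, r, l, hl⟩ := hsurj s
    obtain ⟨u, hu⟩ := IsLocalization.map_units Γ(Y, Y.basicOpen e) (⟨_, m + n, rfl⟩ : Submonoid.powers e)
    refine ⟨algebraMap Γ(Y, U) Γ(Y, Y.basicOpen e) r * ↑u⁻¹, ?_⟩
    have hkey : algebraMap Γ(X, f ⁻¹ᵁ U) Γ(X, f ⁻¹ᵁ Y.basicOpen e) (φ r) =
        algebraMap Γ(X, f ⁻¹ᵁ U) Γ(X, f ⁻¹ᵁ Y.basicOpen e) (φ e ^ n * s) :=
      (IsLocalization.eq_iff_exists (Submonoid.powers (φ e)) _).2 ⟨⟨_, l, rfl⟩, by
        rw [mul_sub, sub_eq_zero] at hl; exact hl.symm⟩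
    have h2 : (f.app (Y.basicOpen e)).hom (↑u) =
        algebraMap Γ(X, f ⁻¹ᵁ U) Γ(X, f ⁻¹ᵁ Y.basicOpen e) (φ e ^ m * φ e ^ n) := by
      rw [hu, hsq]; congr 1; simp [pow_add]
    apply ((u.isUnit).map (f.app (Y.basicOpen e)).hom).mul_left_injective
    show _ * (f.app (Y.basicOpen e)).hom ↑u = b * (f.app (Y.basicOpen e)).hom ↑u
    rw [← map_mul, mul_assoc, Units.inv_mul, mul_one, hsq, hkey, h2]
    simp only [map_mul]
    rw [← mul_assoc, hs]
    simp only [map_pow]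
    ring

theorem isIntegralHom_of_cover {X Y : Scheme.{u}} (f : X ⟶ Y) {ι : Type*} (U : ι → Y.Opens) (hcov : ⨆ a, U a = ⊤)
    (hU : ∀ a, IsAffineOpen (U a)) (V : ι → X.Opens) (hpre : ∀ a, f ⁻¹ᵁ U a = V a) (hV : ∀ a, IsAffineOpen (V a))
    (h : ∀ a (e : V a ≤ f ⁻¹ᵁ U a), (f.appLE (U a) (V a) e).hom.IsIntegral) : IsIntegralHom f := by
  rw [IsZariskiLocalAtTarget.iff_of_iSup_eq_top (P := @IsIntegralHom) U hcov]
  intro a
  haveI : IsAffine _ := hU a
  rw [HasAffineProperty.iff_of_isAffine (P := @IsIntegralHom)]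
  refine ⟨hpre a ▸ hV a, ?_⟩
  rw [morphismRestrict_app]
  refine (RingHom.isIntegral_respectsIso.cancel_right_isIso _ _).2 ?_
  have key : ∀ (O : Y.Opens), O = U a → (f.app O).hom.IsIntegral := by
    rintro _ rfl
    rw [Scheme.Hom.app_eq_appLE]
    have key2 : ∀ (B : X.Opens) (e : B ≤ f ⁻¹ᵁ U a), B = V a → (f.appLE (U a) B e).hom.IsIntegral := by
      rintro _ e rfl; exact h a e
    exact key2 _ _ (hpre a)
  exact key _ (U a).ι_image_top

theorem exists_openImmersion_finite {X S : Scheme.{u}} (f : X ⟶ S) [CompactSpace S] [QuasiSeparatedSpace S]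
    [LocallyQuasiFinite f] [LocallyOfFiniteType f] [QuasiCompact f] [IsSeparated f] :
    ∃ (T : Scheme.{u}) (j : X ⟶ T) (π : T ⟶ S), IsOpenImmersion j ∧ QuasiCompact j ∧ IsFinite π ∧ j ≫ π = f := by
  classical
  let N := f.normalization
  let q : N ⟶ S := f.fromNormalization
  let j₀ : X ⟶ N := f.toNormalization
  haveI : IsOpenImmersion j₀ := inferInstanceAs (IsOpenImmersion f.toNormalization)
  haveI : IsIntegralHom q := inferInstanceAs (IsIntegralHom f.fromNormalization)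
  have hjq : j₀ ≫ q = f := f.toNormalization_fromNormalization
  haveI : CompactSpace X := QuasiCompact.compactSpace_of_compactSpace f
  haveI : CompactSpace N := QuasiCompact.compactSpace_of_compactSpace q
  haveI : QuasiSeparatedSpace N := quasiSeparatedSpace_of_quasiSeparated q
  let J := j₀.opensRange
  haveI : LocallyOfFiniteType (J.ι ≫ q) := by
    have h : j₀.isoOpensRange.inv ≫ f = J.ι ≫ q := by
      rw [← hjq, Scheme.Hom.isoOpensRange_inv_comp_assoc]
    rw [← h]; infer_instance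
  let 𝒰 := S.affineCover.finiteSubcover
  let W : 𝒰.I₀ → S.Opens := fun a => (𝒰.f a).opensRange
  have hW : ∀ a, IsAffineOpen (W a) := fun a => by
    have : IsAffine (𝒰.X a) := by dsimp [𝒰]; infer_instance
    exact isAffineOpen_opensRange _
  let A : 𝒰.I₀ → N.Opens := fun a => q ⁻¹ᵁ W a
  have hA : ∀ a, IsAffineOpen (A a) := fun a => (hW a).preimage q
  have hAcov : ⨆ a, A a = ⊤ := by
    rw [← Scheme.Hom.preimage_iSup, show ⨆ a, W a = ⊤ from 𝒰.iSup_opensRange]; rfl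
  have hpt : ∀ p : {p : 𝒰.I₀ × X // j₀ p.2 ∈ A p.1}, ∃ (e : Γ(N, A p.1.1)) (C : Finset Γ(N, A p.1.1)), e ∈ C ∧
      j₀ p.1.2 ∈ N.basicOpen e ∧ N.basicOpen e ≤ J ∧
      ∀ s : Γ(N, A p.1.1), ∃ (n : ℕ) (r : Γ(N, A p.1.1)),
        r ∈ Subring.closure (Set.range (q.appLE (W p.1.1) (A p.1.1) le_rfl) ∪ (C : Set Γ(N, A p.1.1))) ∧
        ∃ k : ℕ, e ^ k * (e ^ n * s - r) = 0 := fun p =>
    exists_cover_basicOpen (hA p.1.1) (hW p.1.1) q le_rfl _ p.2 ⟨p.1.2, rfl⟩
  choose e C heC hxe heJ hgen using hpt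
  obtain ⟨t, ht⟩ := isCompact_univ.elim_finite_subcover (fun p => ((j₀ ⁻¹ᵁ N.basicOpen (e p) : X.Opens) : Set X))
    (fun p => (j₀ ⁻¹ᵁ N.basicOpen (e p)).2) (fun x _ => by
      obtain ⟨a, ha⟩ := Opens.mem_iSup.1 (hAcov.ge (Set.mem_univ (j₀ x)) : j₀ x ∈ ⨆ a, A a)
      exact Set.mem_iUnion.2 ⟨⟨(a, x), ha⟩, hxe _⟩)
  haveI : Finite 𝒰.I₀ := inferInstance
  let E : ∀ a, Finset Γ(N, A a) := fun a => t.biUnion fun p =>
    if h : p.1.1 = a then h ▸ C p else ∅
  obtain ⟨T, k, π, U', hkπ, hlft, hqc, hqs, hkqc, hkdom, hU'cov, hU'⟩ :=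
    exists_model q W hW A hA (fun _ => le_rfl) hAcov E
  haveI : IsIntegralHom k := isIntegralHom_of_cover k U' hU'cov (fun a => (hU' a).1) A
    (fun a => (hU' a).2.2.1) hA fun a hle' => by
      obtain ⟨hU'a, hUW, hpre, h, -, -⟩ := hU' a
      refine RingHom.IsIntegral.tower_top (π.appLE (W a) (U' a) hUW).hom _ ?_
      rw [← CommRingCat.hom_comp, Scheme.Hom.appLE_comp_appLE]
      have hint' : (q.app (W a)).hom.IsIntegral := IsIntegralHom.isIntegral_app q _ (hW a)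
      convert! hint' using 2
      rw [Scheme.Hom.app_eq_appLE]
      exact CommRingCat.hom_ext (RingHom.ext fun r => appLE_apply_congr hkπ _ r)
  have hsurj : Function.Surjective k := by
    rw [← Set.range_eq_univ, ← k.isClosedMap.isClosed_range.closure_eq]
    exact k.denseRange.closure_range
  have hπpre : ∀ a, π ⁻¹ᵁ W a = U' a := fun a => by
    refine le_antisymm (fun z hz => ?_) (hU' a).2.1
    obtain ⟨n, rfl⟩ := hsurj z
    have : n ∈ A a := by
      show q n ∈ W a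
      rw [← hkπ, Scheme.Hom.comp_apply]
      exact hz
    rw [← (hU' a).2.2.1] at this
    exact this
  haveI : IsIntegralHom π := isIntegralHom_of_cover π W 𝒰.iSup_opensRange hW U' hπpre (fun a => (hU' a).1)
    fun a hle' => by
      obtain ⟨hU'a, hUW, hpre, h, hinj, -⟩ := hU' a
      intro c
      have hint' : (q.app (W a)).hom.IsIntegral := IsIntegralHom.isIntegral_app q _ (hW a)
      obtain ⟨P, hPm, hP⟩ := hint' ((k.appLE (U' a) (A a) h).hom c)
      refine ⟨P, hPm, hinj ?_⟩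
      rw [map_zero, Polynomial.hom_eval₂, ← hP]
      congr 1
      rw [← CommRingCat.hom_comp, Scheme.Hom.appLE_comp_appLE, Scheme.Hom.app_eq_appLE]
      exact RingHom.ext fun r => appLE_apply_congr hkπ _ r
  haveI : IsFinite π := (IsFinite.iff_isIntegralHom_and_locallyOfFiniteType π).2 ⟨inferInstance, hlft⟩
  have hloc : ∀ p ∈ t, ∃ V : T.Opens, k ⁻¹ᵁ V = N.basicOpen (e p) ∧ IsIso (k ∣_ V) := by
    intro p hp
    obtain ⟨hU'a, hUW, hpre, h, hinj, hmem⟩ := hU' p.1.1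
    have hCE : C p ⊆ E p.1.1 := fun c hc => Finset.mem_biUnion.2 ⟨p, hp, by rw [dif_pos rfl]; exact hc⟩
    let κ := k.appLE (U' p.1.1) (A p.1.1) h
    obtain ⟨e', he'⟩ := hmem _ (hCE (heC p))
    have hR : Subring.closure (Set.range (q.appLE (W p.1.1) (A p.1.1) le_rfl) ∪ (C p : Set Γ(N, A p.1.1))) ≤ κ.hom.range := by
      rw [Subring.closure_le]
      rintro b (⟨r, rfl⟩ | hb)
      · refine ⟨π.appLE (W p.1.1) (U' p.1.1) hUW r, ?_⟩
        rw [← CommRingCat.comp_apply, Scheme.Hom.appLE_comp_appLE]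
        exact appLE_apply_congr hkπ _ r
      · exact hmem b (hCE hb)
    refine ⟨T.basicOpen e', ?_, ?_⟩
    · rw [preimage_basicOpen_appLE k h hpre e']; exact congrArg N.basicOpen he'
    · refine isIso_morphismRestrict_basicOpen k hU'a (hA p.1.1) h hpre e' hinj fun s => ?_
      obtain ⟨n, r, hr, l, hl⟩ := hgen p s
      obtain ⟨r', hr'⟩ := hR hr
      exact ⟨n, r', l, by
        show κ.hom e' ^ l * (κ.hom e' ^ n * s - κ.hom r') = 0
        rw [he', hr']; exact hl⟩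
  choose! V hV hViso using hloc
  let O : T.Opens := ⨆ p : t, V p
  have hkO : k ⁻¹ᵁ O = J := by
    rw [Scheme.Hom.preimage_iSup]
    refine le_antisymm (iSup_le fun p => (hV p.1 p.2).le.trans (heJ p.1)) ?_
    rintro _ ⟨x, rfl⟩
    obtain ⟨p, hp, hx⟩ := Set.mem_iUnion₂.1 (ht (Set.mem_univ x))
    exact Opens.mem_iSup.2 ⟨⟨p, hp⟩, (hV p hp).ge hx⟩
  haveI : IsIso (k ∣_ O) := by
    show MorphismProperty.isomorphisms Scheme.{u} (k ∣_ O)
    rw [IsZariskiLocalAtTarget.iff_of_iSup_eq_top (P := MorphismProperty.isomorphisms Scheme.{u})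
      (fun p : t => O.ι ⁻¹ᵁ V p) (by rw [← Scheme.Hom.preimage_iSup]; exact O.ι_preimage_self)]
    intro p
    refine ((MorphismProperty.isomorphisms Scheme.{u}).arrow_mk_iso_iff (morphismRestrictRestrict k O _)).2 ?_
    have e1 : O.ι ''ᵁ (O.ι ⁻¹ᵁ V p.1) = V p.1 := by
      rw [Scheme.Hom.image_preimage_eq_opensRange_inf, Scheme.Opens.opensRange_ι]
      exact inf_eq_right.2 (le_iSup (fun p : t => V p) p)
    rw [e1]
    exact hViso p.1 p.2
  have hjk : IsOpenImmersion (j₀ ≫ k) := by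
    have e2 : j₀ ≫ k = j₀.isoOpensRange.hom ≫ (N.isoOfEq hkO).inv ≫ (k ∣_ O) ≫ O.ι := by
      rw [morphismRestrict_ι, Scheme.isoOfEq_inv_ι_assoc, Scheme.Hom.isoOpensRange_hom_ι_assoc]
    rw [e2]; infer_instance
  haveI : QuasiSeparatedSpace T := quasiSeparatedSpace_of_quasiSeparated π
  exact ⟨T, j₀ ≫ k, π, hjk, QuasiCompact.of_comp _ (terminal.from T), inferInstance, by rw [Category.assoc, hkπ, hjq]⟩

end Groth.Agent.LocImmFT
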