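import Groth.Agent.LocImmFT.Main
import Groth.Agent.Birat.Basic
/-!
Composition of localizing immersions, morphisms of finite type inducing a localizing immersion near
its image, pieces of morphisms essentially of finite type.
-/
universe u
open AlgebraicGeometry CategoryTheory CategoryTheory.Limits TopologicalSpace Opposite
set_option backward.isDefEq.respectTransparency false
set_option autoImplicit false

namespace Groth.Agent.LocImmFT

theorem isLocHom_comp {A B C : Type u} [CommRing A] [CommRing B] [CommRing C] (φ : A →+* B) (ψ : B →+* C)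
    (h : LocImm.IsLocHom φ) (h' : LocImm.IsLocHom ψ) : LocImm.IsLocHom (ψ.comp φ) := by
  letI := φ.toAlgebra
  letI := ψ.toAlgebra
  letI := (ψ.comp φ).toAlgebra
  haveI : IsScalarTower A B C := .of_algebraMap_eq' rfl
  obtain ⟨S, hS⟩ := h
  obtain ⟨T, hT⟩ := h'
  exact ⟨_, IsLocalization.localization_localization_isLocalization S T C⟩

theorem isLocHom_of_comp {A B C : Type u} [CommRing A] [CommRing B] [CommRing C] (φ : A →+* B) (ψ : B →+* C)
    (h : LocImm.IsLocHom φ) (h' : LocImm.IsLocHom (ψ.comp φ)) : LocImm.IsLocHom ψ := by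
  letI := φ.toAlgebra
  letI := ψ.toAlgebra
  letI := (ψ.comp φ).toAlgebra
  haveI : IsScalarTower A B C := .of_algebraMap_eq' rfl
  obtain ⟨S, hS⟩ := h
  obtain ⟨T, hT⟩ := h'
  refine ⟨T.map φ, { map_units := ?_, surj := fun c => ?_, exists_of_eq := fun {x y} hxy => ?_ }⟩
  · rintro ⟨_, t, ht, rfl⟩
    exact IsLocalization.map_units C (⟨t, ht⟩ : T)
  · obtain ⟨⟨a, t⟩, hat⟩ := IsLocalization.surj T c
    exact ⟨⟨φ a, ⟨φ t, t, t.2, rfl⟩⟩, hat⟩
  · obtain ⟨⟨a, s⟩, ha⟩ := IsLocalization.surj S x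
    obtain ⟨⟨b, s'⟩, hb⟩ := IsLocalization.surj S y
    change x * φ s = φ a at ha
    change y * φ s' = φ b at hb
    change ψ x = ψ y at hxy
    have he : algebraMap A C (a * s') = algebraMap A C (b * s) := by
      show ψ (φ (a * s')) = ψ (φ (b * s))
      simp only [map_mul, ← ha, ← hb, hxy]
      ring
    obtain ⟨t, ht⟩ := IsLocalization.exists_of_eq (M := T) he
    refine ⟨⟨φ t, t, t.2, rfl⟩, ?_⟩
    have hu : IsUnit (φ s * φ s') := (IsLocalization.map_units B s).mul (IsLocalization.map_units B s')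
    apply hu.mul_left_injective
    have := congrArg φ ht
    simp only [map_mul, ← ha, ← hb] at this
    show φ t * x * (φ s * φ s') = φ t * y * (φ s * φ s')
    linear_combination this

/-- a piece of a localizing immersion restricts to basic opens -/
theorem restrict_basicOpen {X Y : Scheme.{u}} (f : X ⟶ Y) {V : Y.Opens} (hV : IsAffineOpen V)
    (hfV : IsAffineOpen (f ⁻¹ᵁ V)) (h : LocImm.IsLocHom (f.app V).hom) (b : Γ(Y, V)) :
    IsAffineOpen (f ⁻¹ᵁ Y.basicOpen b) ∧ LocImm.IsLocHom (f.app (Y.basicOpen b)).hom := by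
  have he : f ⁻¹ᵁ Y.basicOpen b = X.basicOpen (f.app V b) := Scheme.preimage_basicOpen f b
  have haff : IsAffineOpen (f ⁻¹ᵁ Y.basicOpen b) := he ▸ hfV.basicOpen _
  refine ⟨haff, isLocHom_of_comp (Y.presheaf.map (homOfLE (Y.basicOpen_le b)).op).hom _ ?_ ?_⟩
  · exact ⟨Submonoid.powers b, hV.isLocalization_basicOpen b⟩
  · rw [← CommRingCat.hom_comp, Scheme.Hom.naturality, CommRingCat.hom_comp]
    exact isLocHom_comp _ _ h ⟨Submonoid.powers (f.app V b), hfV.isLocalization_of_eq_basicOpen _ _ he⟩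

theorem isLocImmersion_comp {X Y Z : Scheme.{u}} [IsNoetherian X] [IsNoetherian Y] {f : X ⟶ Y} {g : Y ⟶ Z}
    (hf : LocImm.IsLocImmersion f) (hg : LocImm.IsLocImmersion g) : LocImm.IsLocImmersion (f ≫ g) := by
  refine ⟨fun x => ?_, fun a b h => hf.2 (hg.2 (by rwa [← Scheme.Hom.comp_apply, ← Scheme.Hom.comp_apply]))⟩
  obtain ⟨V, hxV, -, hV, hgV, hlg⟩ := LocImmB.exists_affine_nhd hg (f x) ⊤ trivial
  obtain ⟨V₁, hxV₁, hV₁le, hV₁, hfV₁, hlf⟩ := LocImmB.exists_affine_nhd hf x (g ⁻¹ᵁ V) hxV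
  obtain ⟨b, hb, hxb⟩ := hgV.exists_basicOpen_le (V := V₁) ⟨f x, hxV₁⟩ hxV
  have hbe : Y.basicOpen b = Y.basicOpen (Y.presheaf.map (homOfLE hV₁le).op b) := by
    rw [Scheme.basicOpen_res]; exact (inf_eq_right.2 hb).symm
  obtain ⟨haff, hloc⟩ : IsAffineOpen (f ⁻¹ᵁ Y.basicOpen b) ∧ LocImm.IsLocHom (f.app (Y.basicOpen b)).hom := by
    rw [hbe]; exact restrict_basicOpen f hV₁ hfV₁ hlf _
  have hle : Y.basicOpen b ≤ g ⁻¹ᵁ V := Y.basicOpen_le b
  have hl1 : LocImm.IsLocHom (g.appLE V (Y.basicOpen b) hle).hom := by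
    rw [Scheme.Hom.appLE, CommRingCat.hom_comp]
    exact isLocHom_comp _ _ hlg ⟨Submonoid.powers b, hgV.isLocalization_basicOpen b⟩
  refine ⟨⟨V, hV⟩, ⟨_, haff⟩, hxb, fun z hz => hle hz, ?_⟩
  have := isLocHom_comp _ _ hl1 hloc
  rw [← CommRingCat.hom_comp, Scheme.Hom.app_eq_appLE, Scheme.Hom.appLE_comp_appLE] at this
  exact this

theorem isLocImmersion_of_isOpenImmersion {X Y : Scheme.{u}} (f : X ⟶ Y) [IsOpenImmersion f] : LocImm.IsLocImmersion f := by
  refine ⟨fun x => ?_, f.isOpenEmbedding.injective⟩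
  obtain ⟨_, ⟨V, hV, rfl⟩, hxV, -⟩ := X.isBasis_affineOpens.exists_subset_of_mem_open (Set.mem_univ x) isOpen_univ
  refine ⟨⟨f ''ᵁ V, hV.image_of_isOpenImmersion f⟩, ⟨V, hV⟩, hxV, (f.preimage_image_eq V).ge, ?_⟩
  have hb : Function.Bijective (f.appLE (f ''ᵁ V) V (f.preimage_image_eq V).ge) :=
    (ConcreteCategory.isIso_iff_bijective _).1 (by rw [← Scheme.Hom.appIso_hom']; infer_instance)
  let φ := (f.appLE (f ''ᵁ V) V (f.preimage_image_eq V).ge).hom
  letI := φ.toAlgebra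
  refine ⟨⊥, { map_units := ?_, surj := fun z => ?_, exists_of_eq := fun {a b} hab => ⟨1, by rw [hb.1 hab]⟩ }⟩
  · rintro ⟨y, hy⟩
    rw [Submonoid.mem_bot] at hy
    subst hy
    show IsUnit (φ 1)
    simp
  · obtain ⟨a, rfl⟩ := hb.2 z
    exact ⟨⟨a, 1⟩, by show φ a * φ 1 = φ a; simp⟩

/-- a morphism of finite type which induces isomorphisms on the stalks along the image of a monomorphism
over the target is an open immersion near this image -/
theorem exists_open_isOpenImmersion {X Y₁ Y₂ : Scheme.{u}} [IsNoetherian X] [IsNoetherian Y₁] [IsNoetherian Y₂]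
    (f₁ : X ⟶ Y₁) (g : Y₁ ⟶ Y₂) [LocallyOfFiniteType g] (hf₁ : LocImm.IsLocImmersion f₁)
    (hf₂ : LocImm.IsLocImmersion (f₁ ≫ g)) :
    ∃ U : Y₁.Opens, Set.range f₁ ⊆ (U : Set Y₁) ∧ IsOpenImmersion (U.ι ≫ g) := by
  classical
  haveI := LocImmB.flat hf₁.1
  haveI := LocImmB.surjectiveOnStalks hf₁.1
  haveI := LocImmB.flat hf₂.1
  haveI := LocImmB.surjectiveOnStalks hf₂.1
  haveI := LocImmB.mono hf₂
  haveI : LocallyOfFinitePresentation g := ⟨fun {U} hU {V} hV e => by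
    haveI := IsLocallyNoetherian.component_noetherian ⟨U, hU⟩
    exact RingHom.FinitePresentation.of_finiteType.1 (g.finiteType_appLE hU hV e)⟩
  have hloc : ∀ x : X, ∃ U : Y₁.Opens, f₁ x ∈ U ∧ IsOpenImmersion (U.ι ≫ g) := fun x => by
    haveI h1 := LocImmB.isIso_stalkMap f₁ x
    haveI h2 : IsIso (g.stalkMap (f₁ x)) := by
      have h3 := LocImmB.isIso_stalkMap (f₁ ≫ g) x
      rw [Scheme.Hom.stalkMap_comp] at h3
      exact IsIso.of_isIso_comp_right (g.stalkMap (f₁ x)) (f₁.stalkMap x)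
    obtain ⟨U', hxU', V', hyV', f', hf', -, -, hcomm, -⟩ := Birat.exists_isIso_lfp g (𝟙 Y₂) (x := f₁ x) (y := g (f₁ x))
      (g.stalkMap (f₁ x)) (by rw [Category.comp_id, Scheme.SpecMap_stalkMap_fromSpecStalk]) ⊤ trivial ⊤ trivial
    rw [Category.comp_id] at hcomm
    exact ⟨U', hxU', by rw [← hcomm]; infer_instance⟩
  choose Ux hxU hUimm using hloc
  let U : Y₁.Opens := ⨆ x, Ux x
  let gU : U.toScheme ⟶ Y₂ := U.ι ≫ g
  haveI : IsLocalIso gU := ⟨fun z => by
    obtain ⟨x, hx⟩ := Opens.mem_iSup.1 (show z.1 ∈ ⨆ x, Ux x from z.2)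
    haveI := hUimm x
    refine ⟨U.ι ⁻¹ᵁ Ux x, hx, ?_⟩
    have e : (U.ι ⁻¹ᵁ Ux x).ι ≫ gU = IsOpenImmersion.lift (Ux x).ι ((U.ι ⁻¹ᵁ Ux x).ι ≫ U.ι) (by
        rintro _ ⟨w, rfl⟩; rw [Scheme.Opens.range_ι]; exact w.2) ≫ (Ux x).ι ≫ g := by
      rw [IsOpenImmersion.lift_fac_assoc, Category.assoc]
    haveI : IsOpenImmersion (IsOpenImmersion.lift (Ux x).ι ((U.ι ⁻¹ᵁ Ux x).ι ≫ U.ι) (by
        rintro _ ⟨w, rfl⟩; rw [Scheme.Opens.range_ι]; exact w.2)) := by
      have h' : IsOpenImmersion (IsOpenImmersion.lift (Ux x).ι ((U.ι ⁻¹ᵁ Ux x).ι ≫ U.ι) (by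
        rintro _ ⟨w, rfl⟩; rw [Scheme.Opens.range_ι]; exact w.2) ≫ (Ux x).ι) := by
        rw [IsOpenImmersion.lift_fac]; infer_instance
      exact IsOpenImmersion.of_comp _ (Ux x).ι
    rw [e]; infer_instance⟩
  haveI : IsNoetherian U.toScheme := isNoetherian_opens U
  haveI hfu : FormallyUnramified gU := (IsLocalIso.le_of_isZariskiLocalAtSource @FormallyUnramified) _ _ gU inferInstance
  haveI : Flat gU := (IsLocalIso.le_of_isZariskiLocalAtSource @Flat) _ _ gU inferInstance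
  haveI : SurjectiveOnStalks gU := (IsLocalIso.le_of_isZariskiLocalAtSource @SurjectiveOnStalks) _ _ gU inferInstance
  haveI : LocallyOfFiniteType gU := inferInstance
  haveI : QuasiCompact gU := inferInstance
  let fU : X ⟶ U.toScheme := IsOpenImmersion.lift U.ι f₁ (by
    rintro _ ⟨x, rfl⟩; rw [Scheme.Opens.range_ι]; exact Opens.mem_iSup.2 ⟨x, hxU x⟩)
  have hfU : fU ≫ U.ι = f₁ := IsOpenImmersion.lift_fac _ _ _
  have hfUl : LocImm.IsLocImmersion fU := isLocImmersion_lift f₁ hf₁ U _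
  haveI := LocImmB.flat hfUl.1
  let P := pullback gU gU
  haveI : IsLocallyNoetherian P := LocallyOfFiniteType.isLocallyNoetherian (pullback.fst gU gU)
  haveI : CompactSpace P := QuasiCompact.compactSpace_of_compactSpace (pullback.fst gU gU)
  haveI : IsNoetherian P := ⟨⟩
  let Δ := pullback.diagonal gU
  haveI : IsOpenImmersion Δ := inferInstanceAs (IsOpenImmersion (pullback.diagonal gU))
  obtain ⟨O, hO, hOavoid⟩ := exists_open_avoid (LocImmB.stableUnderGeneralization_range fU)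
    (pullback.fst gU gU) (pullback.snd gU gU) (Z := (Set.range Δ)ᶜ) Δ.isOpenEmbedding.isOpen_range.isClosed_compl
    (fun z hz => by
      by_contra hcon
      push Not at hcon
      obtain ⟨h1, h2⟩ := hcon
      have hm : fU ≫ gU = f₁ ≫ g := by simp only [gU, ← hfU, Category.assoc]
      obtain ⟨e, rfl⟩ : z ∈ Set.range (pullback.map (fU ≫ gU) (fU ≫ gU) gU gU fU fU (𝟙 _) (by simp) (by simp)) := by
        rw [Scheme.Pullback.range_map]; exact ⟨h1, h2⟩
      haveI : Mono (fU ≫ gU) := hm ▸ inferInstance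
      apply hz
      refine ⟨fU (pullback.fst (fU ≫ gU) (fU ≫ gU) e), ?_⟩
      rw [← Scheme.Hom.comp_apply, ← Scheme.Hom.comp_apply]
      congr 5
      apply pullback.hom_ext
      · simp [Δ]
      · simp only [Δ, Category.assoc, pullback.diagonal_snd, Category.comp_id, pullback.lift_snd]
        rw [show pullback.fst (fU ≫ gU) (fU ≫ gU) = pullback.snd _ _ from (cancel_mono (fU ≫ gU)).1 pullback.condition])
  refine ⟨U.ι ''ᵁ O, ?_, ?_⟩
  · rintro _ ⟨x, rfl⟩
    exact ⟨fU x, hO ⟨x, rfl⟩, congr($hfU x)⟩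
  · have hinj : Function.Injective (O.ι ≫ gU) := by
      intro a b hab
      obtain ⟨z, hz1, hz2⟩ := Scheme.Pullback.exists_preimage_pullback (f := gU) (g := gU) a.1 b.1
        (by rw [Scheme.Hom.comp_apply, Scheme.Hom.comp_apply] at hab; exact hab)
      have hzΔ : z ∈ Set.range Δ := by
        by_contra hcon
        rcases hOavoid z hcon with h | h
        · exact h (hz1 ▸ a.2)
        · exact h (hz2 ▸ b.2)
      obtain ⟨w, rfl⟩ := hzΔ
      apply Subtype.ext
      have e1 : pullback.fst gU gU (Δ w) = w := by rw [← Scheme.Hom.comp_apply]; simp [Δ]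
      have e2 : pullback.snd gU gU (Δ w) = w := by rw [← Scheme.Hom.comp_apply]; simp [Δ]
      rw [← hz1, ← hz2, e1, e2]
    haveI : Mono (O.ι ≫ gU) := SurjectiveOnStalks.mono_of_injective hinj
    haveI : LocallyOfFinitePresentation gU := inferInstance
    haveI : IsOpenImmersion (O.ι ≫ gU) := IsOpenImmersion.of_flat_of_mono _
    have e : (U.ι ''ᵁ O).ι ≫ g = (U.ι.isoImage O).inv ≫ O.ι ≫ gU := by
      rw [← Scheme.Hom.isoImage_inv_ι U.ι O]
      simp [gU, Category.assoc]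
    rw [e]; infer_instance

theorem exists_open_isLocImmersion {X Y₁ Y₂ : Scheme.{u}} [IsNoetherian X] [IsNoetherian Y₁] [IsNoetherian Y₂]
    (f₁ : X ⟶ Y₁) (g : Y₁ ⟶ Y₂) [IsSeparated g] [EssFT.LocallyEssFiniteType g] (hf₁ : LocImm.IsLocImmersion f₁)
    (hf₂ : LocImm.IsLocImmersion (f₁ ≫ g)) :
    ∃ U : Y₁.Opens, Set.range f₁ ⊆ (U : Set Y₁) ∧ LocImm.IsLocImmersion (U.ι ≫ g) := by
  obtain ⟨Y', i, g', hN, hi, -, hg', -, hig⟩ := exists_locImmersion_finiteType g
  have h1 := isLocImmersion_comp hf₁ hi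
  obtain ⟨U', hU', hU'imm⟩ := exists_open_isOpenImmersion (f₁ ≫ i) g' h1 (by rwa [Category.assoc, hig])
  refine ⟨i ⁻¹ᵁ U', ?_, ?_⟩
  · rintro _ ⟨x, rfl⟩
    exact hU' ⟨x, rfl⟩
  · haveI : IsNoetherian (i ⁻¹ᵁ U').toScheme := isNoetherian_opens _
    haveI : IsNoetherian U'.toScheme := isNoetherian_opens _
    have hl : LocImm.IsLocImmersion (IsOpenImmersion.lift U'.ι ((i ⁻¹ᵁ U').ι ≫ i) (by
        rintro _ ⟨w, rfl⟩; rw [Scheme.Opens.range_ι]; exact w.2)) :=
      isLocImmersion_lift _ (isLocImmersion_comp (isLocImmersion_of_isOpenImmersion _) hi) U' _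
    have := isLocImmersion_comp hl (isLocImmersion_of_isOpenImmersion (U'.ι ≫ g'))
    rwa [IsOpenImmersion.lift_fac_assoc, Category.assoc, hig] at this

/-- a localizing immersion followed by a morphism of finite type is essentially of finite type -/
theorem locallyEssFiniteType_comp {X Y S : Scheme.{u}} [IsNoetherian X] {k : X ⟶ Y} (hk : LocImm.IsLocImmersion k)
    (p : Y ⟶ S) [LocallyOfFiniteType p] : EssFT.LocallyEssFiniteType (k ≫ p) := by
  refine ⟨fun x => ?_⟩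
  obtain ⟨_, ⟨W, hW, rfl⟩, hxW, -⟩ := S.isBasis_affineOpens.exists_subset_of_mem_open (Set.mem_univ (p (k x))) isOpen_univ
  obtain ⟨V, hxV, hVW, hV, hkV, hl⟩ := LocImmB.exists_affine_nhd hk x (p ⁻¹ᵁ W) hxW
  refine ⟨⟨W, hW⟩, ⟨_, hkV⟩, hxV, fun z hz => hVW hz, ?_⟩
  have h1 : (p.appLE W V hVW).hom.EssFiniteType := (p.finiteType_appLE hW hV hVW).essFiniteType
  have h2 : (k.app V).hom.EssFiniteType := by
    letI := (k.app V).hom.toAlgebra
    obtain ⟨M, hM⟩ := hl
    exact Algebra.EssFiniteType.of_isLocalization (R := Γ(Y, V)) (S := Γ(X, k ⁻¹ᵁ V)) M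
  have := h1.comp h2
  rw [← CommRingCat.hom_comp, Scheme.Hom.app_eq_appLE, Scheme.Hom.appLE_comp_appLE] at this
  exact this

end Groth.Agent.LocImmFT
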