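import Groth.Agent.LocImmFT.Finite
import Groth.Agent.LimClosed.FTIdeals
import Groth.Agent.S7396
/-!
A quasi-finite separated morphism of finite presentation over a quasi-compact quasi-separated base is
an open immersion followed by a finite morphism of finite presentation.
-/
universe u
open AlgebraicGeometry CategoryTheory CategoryTheory.Limits TopologicalSpace Opposite
set_option backward.isDefEq.respectTransparency false
set_option autoImplicit false

namespace Groth.Agent.LocImmFT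

theorem exists_openImmersion_finite_fp {X S : Scheme.{u}} (f : X ⟶ S) [CompactSpace S] [QuasiSeparatedSpace S]
    [IsSeparated f] [QuasiCompact f] [LocallyQuasiFinite f] [LocallyOfFinitePresentation f] :
    ∃ (T : Scheme.{u}) (j : X ⟶ T) (π : T ⟶ S), IsOpenImmersion j ∧ QuasiCompact j ∧ IsFinite π ∧
      LocallyOfFinitePresentation π ∧ j ≫ π = f := by
  classical
  obtain ⟨T, j, π, hj, -, hπ, hjπ⟩ := exists_openImmersion_finite f
  obtain ⟨T', π', i, hπ', hfp', hi, hiπ⟩ := S7396.result π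
  haveI : CompactSpace T' := QuasiCompact.compactSpace_of_compactSpace π'
  haveI : QuasiSeparatedSpace T' := quasiSeparatedSpace_of_quasiSeparated π'
  haveI : QuasiSeparatedSpace T := quasiSeparatedSpace_of_quasiSeparated π
  haveI : CompactSpace X := QuasiCompact.compactSpace_of_compactSpace f
  let J := j.opensRange
  obtain ⟨Vs, hVo, hVs⟩ := i.isClosedEmbedding.isInducing.isOpen_iff.1 J.isOpen
  let V'' : T'.Opens := ⟨Vs, hVo⟩
  have hiV : i ⁻¹ᵁ V'' = J := Opens.ext hVs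
  -- affine pieces of `V''` around the image of `X`, on which the ideal is finitely generated
  have hpt : ∀ x : X, ∃ W : T'.affineOpens, i (j x) ∈ W.1 ∧ W.1 ≤ V'' ∧ (i.ker.ideal W).FG := by
    intro x
    obtain ⟨_, ⟨WS, hWS, rfl⟩, hxS, -⟩ := S.isBasis_affineOpens.exists_subset_of_mem_open (Set.mem_univ (π' (i (j x)))) isOpen_univ
    have hxV : i (j x) ∈ V'' := by
      show j x ∈ i ⁻¹ᵁ V''
      rw [hiV]; exact ⟨x, rfl⟩
    obtain ⟨_, ⟨W, hW, rfl⟩, hxW, hWV⟩ := T'.isBasis_affineOpens.exists_subset_of_mem_open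
      (show i (j x) ∈ V'' ⊓ π' ⁻¹ᵁ WS from ⟨hxV, hxS⟩) (V'' ⊓ π' ⁻¹ᵁ WS).2
    refine ⟨⟨W, hW⟩, hxW, fun z hz => (hWV hz).1, ?_⟩
    have hWS' : W ≤ π' ⁻¹ᵁ WS := fun z hz => (hWV hz).2
    have hA : IsAffineOpen (i ⁻¹ᵁ W) := hW.preimage i
    have hAJ : i ⁻¹ᵁ W ≤ J := hiV ▸ fun z hz => (hWV hz).1
    have hle : i ⁻¹ᵁ W ≤ (i ≫ π') ⁻¹ᵁ WS := fun z hz => hWS' hz
    have hfp : ((i ≫ π').appLE WS (i ⁻¹ᵁ W) hle).hom.FinitePresentation := by
      haveI : LocallyOfFinitePresentation (J.ι ≫ i ≫ π') := by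
        have h : j.isoOpensRange.inv ≫ f = J.ι ≫ i ≫ π' := by
          rw [hiπ, ← hjπ, Scheme.Hom.isoOpensRange_inv_comp_assoc]
        rw [← h]; infer_instance
      have hB : IsAffineOpen (J.ι ⁻¹ᵁ (i ⁻¹ᵁ W)) :=
        hA.preimage_of_isOpenImmersion J.ι (by rw [Scheme.Opens.opensRange_ι]; exact hAJ)
      have hle' : J.ι ⁻¹ᵁ (i ⁻¹ᵁ W) ≤ (J.ι ≫ i ≫ π') ⁻¹ᵁ WS := fun y hy => hle hy
      have hbij : Function.Bijective (J.ι.app (i ⁻¹ᵁ W)) := (ConcreteCategory.isIso_iff_bijective _).1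
        (Scheme.Hom.isIso_app J.ι (i ⁻¹ᵁ W) (by rw [Scheme.Opens.opensRange_ι]; exact hAJ))
      let r := RingEquiv.ofBijective (J.ι.app (i ⁻¹ᵁ W)).hom hbij
      have h1 := LocallyOfFinitePresentation.finitePresentation_appLE (J.ι ≫ i ≫ π') hWS hB hle'
      have h2 : ((J.ι ≫ i ≫ π').appLE WS _ hle').hom = r.toRingHom.comp ((i ≫ π').appLE WS (i ⁻¹ᵁ W) hle).hom := by
        show _ = (J.ι.app _).hom.comp _
        rw [← CommRingCat.hom_comp, Scheme.Hom.app_eq_appLE, Scheme.Hom.appLE_comp_appLE]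
      have h3 : ((i ≫ π').appLE WS (i ⁻¹ᵁ W) hle).hom = r.symm.toRingHom.comp ((J.ι ≫ i ≫ π').appLE WS _ hle').hom := by
        rw [h2]; ext; simp
      rw [h3]
      exact RingHom.FinitePresentation.comp (RingHom.FinitePresentation.of_bijective r.symm.bijective) h1
    have hfpi : (i.app W).hom.FinitePresentation := by
      refine RingHom.FinitePresentation.of_comp_finiteType (π'.appLE WS W hWS').hom ?_ (π'.finiteType_appLE hWS hW _)
      rw [← CommRingCat.hom_comp, Scheme.Hom.app_eq_appLE, Scheme.Hom.appLE_comp_appLE]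
      exact hfp
    rw [Scheme.Hom.ker_apply i ⟨W, hW⟩]
    have hsurj : Function.Surjective (i.app W) := i.app_surjective W hW
    let φ := (i.app W).hom
    letI := φ.toAlgebra
    haveI : Algebra.FinitePresentation Γ(T', W) Γ(T, i ⁻¹ᵁ W) := hfpi
    exact Algebra.FinitePresentation.ker_fG_of_surjective (Algebra.ofId Γ(T', W) Γ(T, i ⁻¹ᵁ W)) hsurj
  choose W hxW hWV hfg using hpt
  obtain ⟨s, hs⟩ := isCompact_univ.elim_finite_subcover (fun x => (((i ⁻¹ᵁ (W x).1) : T.Opens).1.preimage j))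
    (fun x => (i ⁻¹ᵁ (W x).1).2.preimage j.continuous) (fun x _ => Set.mem_iUnion.2 ⟨x, hxW x⟩)
  -- an ideal of finite type which agrees with the ideal of `T` on those pieces
  choose g hg using hfg
  have hL : ∀ p : Σ x : s, {a // a ∈ g x.1}, ∃ L : LimClosed.FTBelow i.ker, p.2.1 ∈ L.1.ideal (W p.1.1) := fun p => by
    obtain ⟨L, hle, hfgL, hmem⟩ := LimClosed.exists_ft_le i.ker (W p.1.1) p.2.1
      (hg p.1.1 ▸ Submodule.subset_span p.2.2)
    exact ⟨⟨L, hle, hfgL⟩, hmem⟩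
  choose L hLmem using hL
  obtain ⟨M, hM⟩ := Finite.exists_le L
  have heq : ∀ x : s, M.1.ideal (W x.1) = i.ker.ideal (W x.1) := fun x =>
    le_antisymm (M.2.1 _) (by
      rw [← hg x.1, Submodule.span_le]
      exact fun a ha => (hM ⟨x, a, ha⟩) _ (hLmem ⟨x, a, ha⟩))
  let T'' := M.1.subscheme
  let k : T ⟶ T'' := IsClosedImmersion.lift M.1.subschemeι i ((Scheme.IdealSheafData.ker_subschemeι M.1).le.trans M.2.1)
  have hk : k ≫ M.1.subschemeι = i := IsClosedImmersion.lift_fac _ _ _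
  haveI : LocallyOfFinitePresentation M.1.subschemeι := LimClosed.lfp_diagram i.ker (op M)
  let O : T''.Opens := ⨆ x : s, M.1.subschemeι ⁻¹ᵁ (W x.1).1
  have hkO : k ⁻¹ᵁ O = J := by
    rw [Scheme.Hom.preimage_iSup]
    refine le_antisymm (iSup_le fun x => ?_) ?_
    · rw [← Scheme.Hom.comp_preimage, hk]
      exact fun z hz => hiV.le (hWV x.1 hz)
    · rintro _ ⟨x, rfl⟩
      obtain ⟨y, hy, hxy⟩ := Set.mem_iUnion₂.1 (hs (Set.mem_univ x))
      refine Opens.mem_iSup.2 ⟨⟨y, hy⟩, ?_⟩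
      rw [← Scheme.Hom.comp_preimage, hk]
      exact hxy
  haveI : IsIso (k ∣_ O) := by
    show MorphismProperty.isomorphisms Scheme.{u} (k ∣_ O)
    rw [IsZariskiLocalAtTarget.iff_of_iSup_eq_top (P := MorphismProperty.isomorphisms Scheme.{u})
      (fun x : s => O.ι ⁻¹ᵁ (M.1.subschemeι ⁻¹ᵁ (W x.1).1)) (by rw [← Scheme.Hom.preimage_iSup]; exact O.ι_preimage_self)]
    intro x
    refine ((MorphismProperty.isomorphisms Scheme.{u}).arrow_mk_iso_iff (morphismRestrictRestrict k O _)).2 ?_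
    have e1 : O.ι ''ᵁ (O.ι ⁻¹ᵁ (M.1.subschemeι ⁻¹ᵁ (W x.1).1)) = M.1.subschemeι ⁻¹ᵁ (W x.1).1 := by
      rw [Scheme.Hom.image_preimage_eq_opensRange_inf, Scheme.Opens.opensRange_ι]
      exact inf_eq_right.2 (le_iSup (fun x : s => M.1.subschemeι ⁻¹ᵁ (W x.1).1) x)
    rw [e1]
    refine AbsApprox.isIso_restrict k ((W x.1).2.preimage _) ?_ ?_
    · rw [← Scheme.Hom.comp_preimage, hk]; exact (W x.1).2.preimage i
    · haveI : IsClosedImmersion (k ≫ M.1.subschemeι) := by rw [hk]; exact hi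
      have hcomp : (k ≫ M.1.subschemeι).app (W x.1).1 = M.1.subschemeι.app (W x.1).1 ≫ k.app _ := Scheme.Hom.comp_app _ _ _
      have hsurjι := M.1.subschemeι_app_surjective (W x.1)
      constructor
      · refine (injective_iff_map_eq_zero _).2 fun z hz => ?_
        obtain ⟨z, rfl⟩ := hsurjι z
        have h0 : (k ≫ M.1.subschemeι).app (W x.1).1 z = 0 := by rw [hcomp]; exact hz
        have h1 : z ∈ (k ≫ M.1.subschemeι).ker.ideal (W x.1) := by
          rw [Scheme.Hom.ker_apply]; exact h0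
        rw [show (k ≫ M.1.subschemeι).ker = i.ker by rw [hk], ← heq x, ← Scheme.IdealSheafData.ker_subschemeι_app] at h1
        exact h1
      · intro z
        obtain ⟨y, hy⟩ := (k ≫ M.1.subschemeι).app_surjective (W x.1).1 (W x.1).2 z
        rw [hcomp] at hy
        exact ⟨M.1.subschemeι.app (W x.1).1 y, hy⟩
  have hjk : IsOpenImmersion (j ≫ k) := by
    have e2 : j ≫ k = j.isoOpensRange.hom ≫ (T.isoOfEq hkO).inv ≫ (k ∣_ O) ≫ O.ι := by
      rw [morphismRestrict_ι, Scheme.isoOfEq_inv_ι_assoc, Scheme.Hom.isoOpensRange_hom_ι_assoc]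
    rw [e2]; infer_instance
  haveI : IsFinite (M.1.subschemeι ≫ π') := inferInstance
  haveI : LocallyOfFinitePresentation (M.1.subschemeι ≫ π') := inferInstance
  haveI : QuasiSeparatedSpace T'' := quasiSeparatedSpace_of_quasiSeparated M.1.subschemeι
  exact ⟨T'', j ≫ k, M.1.subschemeι ≫ π', hjk, QuasiCompact.of_comp _ (terminal.from T''), inferInstance, inferInstance,
    by rw [Category.assoc, reassoc_of% hk, hiπ, hjπ]⟩

end Groth.Agent.LocImmFT
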