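import Mathlib
import Groth.Prelude.Def_W4c5cptfessfintypeLocImm
/-!
Generators of ring maps essentially of finite type, and a criterion for a ring map to be localizing.
-/
universe u
open AlgebraicGeometry CategoryTheory TopologicalSpace
set_option backward.isDefEq.respectTransparency false
set_option autoImplicit false

namespace Groth.Agent.LocImmFT

/-- `B` is obtained from the image of `ρ` and `E` by inverting units. -/
def Gens {R B : Type u} [CommRing R] [CommRing B] (ρ : R →+* B) (E : Finset B) : Prop :=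
  ∀ s : B, ∃ t ∈ Subring.closure (Set.range ρ ∪ E), IsUnit t ∧ s * t ∈ Subring.closure (Set.range ρ ∪ E)

theorem exists_gens {R B : Type u} [CommRing R] [CommRing B] {ρ : R →+* B} (h : ρ.EssFiniteType) :
    ∃ E : Finset B, Gens ρ E := by
  letI := ρ.toAlgebra
  haveI : Algebra.EssFiniteType R B := h
  obtain ⟨σ, hσ⟩ := (Algebra.essFiniteType_iff R B).1 inferInstance
  refine ⟨σ, fun s => ?_⟩
  obtain ⟨t, ht, htu, hst⟩ := hσ s
  rw [← Subalgebra.mem_toSubring, Algebra.adjoin_eq_ring_closure] at ht hst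
  exact ⟨t, ht, htu, hst⟩

theorem isLocHom_of_gens {R C B : Type u} [CommRing R] [CommRing C] [CommRing B] (φ : C →+* B) (ρ : R →+* B)
    (E : Finset B) (hE : Gens ρ E) (hinj : Function.Injective φ) (hR : ∀ r, ρ r ∈ φ.range)
    (hEφ : ∀ e ∈ E, e ∈ φ.range) : LocImm.IsLocHom φ := by
  letI := φ.toAlgebra
  have hle : Subring.closure (Set.range ρ ∪ (E : Set B)) ≤ φ.range := by
    rw [Subring.closure_le]
    rintro b (⟨r, rfl⟩ | hb)
    exacts [hR r, hEφ b hb]
  refine ⟨(IsUnit.submonoid B).comap φ, { map_units := fun y => y.2, surj := fun z => ?_, exists_of_eq := ?_ }⟩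
  · obtain ⟨t, ht, htu, hzt⟩ := hE z
    obtain ⟨c, rfl⟩ := hle ht
    obtain ⟨a, ha⟩ := hle hzt
    exact ⟨⟨a, ⟨c, htu⟩⟩, ha.symm⟩
  · intro a b hab
    exact ⟨1, by rw [hinj hab]⟩

theorem injOn_of_isLocHom {X Y : Scheme.{u}} (f : X ⟶ Y) {U : Y.Opens} {V : X.Opens} (hU : IsAffineOpen U)
    (hV : IsAffineOpen V) (e : V ≤ f ⁻¹ᵁ U) (h : LocImm.IsLocHom (f.appLE U V e).hom) :
    Set.InjOn f (V : Set X) := by
  intro x hx y hy hxy
  rw [← hV.range_fromSpec] at hx hy
  obtain ⟨a, rfl⟩ := hx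
  obtain ⟨b, rfl⟩ := hy
  rw [← Scheme.Hom.comp_apply, ← Scheme.Hom.comp_apply, ← hU.SpecMap_appLE_fromSpec f hV e,
    Scheme.Hom.comp_apply, Scheme.Hom.comp_apply] at hxy
  have h2 := hU.fromSpec.isOpenEmbedding.injective hxy
  letI := (f.appLE U V e).hom.toAlgebra
  obtain ⟨S, hS⟩ := h
  exact congrArg hV.fromSpec (PrimeSpectrum.localization_comap_injective Γ(X, V) S h2)

end Groth.Agent.LocImmFT
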