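import Groth.Agent.LocImmFT.Cons
import Groth.Agent.LocImmFT.Finite
import Groth.Agent.GrpField.FlatPoint
/-!
Local rings as localizing immersions; localizable properties.
-/
universe u
open AlgebraicGeometry CategoryTheory CategoryTheory.Limits TopologicalSpace Opposite
set_option backward.isDefEq.respectTransparency false
set_option autoImplicit false

namespace Groth.Agent.LocImmFT

theorem isLocImmersion_fromSpecStalk {X : Scheme.{u}} (x : X) : LocImm.IsLocImmersion (X.fromSpecStalk x) := by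
  obtain ⟨_, ⟨V, hV, rfl⟩, hxV, -⟩ := X.isBasis_affineOpens.exists_subset_of_mem_open (Set.mem_univ x) isOpen_univ
  refine ⟨fun z => ?_, ?_⟩
  · have hle : (⊤ : (Spec (X.presheaf.stalk x)).Opens) ≤ X.fromSpecStalk x ⁻¹ᵁ V := by
      intro w _
      exact (Scheme.range_fromSpecStalk (x := x) ▸ Set.mem_range_self w : X.fromSpecStalk x w ∈ {y | y ⤳ x}).mem_open V.2 hxV
    refine ⟨⟨V, hV⟩, ⟨⊤, isAffineOpen_top _⟩, trivial, hle, ?_⟩
    have e : (X.fromSpecStalk x).appLE V ⊤ hle = X.presheaf.germ V x hxV ≫ (Scheme.ΓSpecIso (X.presheaf.stalk x)).inv := by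
      have hid : ∀ (O : (Spec (X.presheaf.stalk x)).Opens) (a : op O ⟶ op O), (Spec (X.presheaf.stalk x)).presheaf.map a = 𝟙 _ := by
        intro O a; rw [Subsingleton.elim a (𝟙 _), CategoryTheory.Functor.map_id]
      rw [Scheme.Hom.appLE, Scheme.fromSpecStalk_app hxV, Category.assoc, Category.assoc, ← Functor.map_comp]
      rw [hid, Category.comp_id]
    rw [e, CommRingCat.hom_comp]
    refine isLocHom_comp _ _ ?_ ?_
    · haveI := hV.isLocalization_stalk ⟨x, hxV⟩
      exact ⟨(hV.primeIdealOf ⟨x, hxV⟩).asIdeal.primeCompl, this⟩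
    · let φ := (Scheme.ΓSpecIso (X.presheaf.stalk x)).inv
      have hb : Function.Bijective φ.hom := (ConcreteCategory.isIso_iff_bijective φ).1 inferInstance
      letI := φ.hom.toAlgebra
      refine ⟨⊥, { map_units := ?_, surj := fun w => ?_, exists_of_eq := fun {a b} hab => ⟨1, by rw [hb.1 hab]⟩ }⟩
      · rintro ⟨y, hy⟩
        rw [Submonoid.mem_bot] at hy
        subst hy
        show IsUnit (φ.hom 1)
        simp
      · obtain ⟨a, rfl⟩ := hb.2 w
        exact ⟨⟨a, 1⟩, by show φ.hom a * φ.hom 1 = φ.hom a; simp⟩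
  · exact LocImmB.injective_of_mono _

theorem flat_fromSpecStalk_comp_iff {X Y : Scheme.{u}} (f : X ⟶ Y) (x : X) :
    Flat (X.fromSpecStalk x ≫ f) ↔ (f.stalkMap x).hom.Flat := by
  rw [← Scheme.SpecMap_stalkMap_fromSpecStalk]
  constructor
  · intro h
    have hpb : IsPullback (Spec.map (f.stalkMap x)) (𝟙 _) (Y.fromSpecStalk (f x))
        (Spec.map (f.stalkMap x) ≫ Y.fromSpecStalk (f x)) := by
      refine IsPullback.of_isLimit (c := PullbackCone.mk (Spec.map (f.stalkMap x)) (𝟙 _) (by simp))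
        (PullbackCone.IsLimit.mk _ (fun s => s.snd) (fun s => ?_) (fun s => by simp) (fun s m _ h2 => by simpa using h2))
      rw [← cancel_mono (Y.fromSpecStalk (f x)), Category.assoc]
      exact s.condition.symm
    have : Flat (Spec.map (f.stalkMap x)) := MorphismProperty.of_isPullback (P := @Flat) hpb.flip h
    exact (HasRingHomProperty.Spec_iff (P := @Flat)).1 this
  · intro h
    haveI : Flat (Spec.map (f.stalkMap x)) := (HasRingHomProperty.Spec_iff (P := @Flat)).2 h
    haveI := GrpField.flat_fromSpecStalk (f x)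
    infer_instance

theorem isNoetherian_spec_stalk {X : Scheme.{u}} [IsNoetherian X] (x : X) : IsNoetherian (Spec (X.presheaf.stalk x)) := by
  haveI : IsNoetherianRing (X.presheaf.stalk x) := inferInstance
  infer_instance

theorem localizable (P : MorphismProperty Scheme.{u})
    (hα : ∀ {W X Y : Scheme.{u}} [IsNoetherian W] [IsNoetherian X] [IsNoetherian Y] (i : W ⟶ X) (f : X ⟶ Y) [IsSeparated f] [EssFT.EssFiniteType f], LocImm.IsLocImmersion i → P f → P (i ≫ f))
    (hβ₁ : ∀ {X Y : Scheme.{u}} [IsNoetherian X] [IsNoetherian Y] (f : X ⟶ Y) [IsSeparated f] [LocallyOfFiniteType f], (∀ x : X, P (X.fromSpecStalk x ≫ f)) → P f)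
    (hβ₂ : ∀ {X Y : Scheme.{u}} [IsNoetherian X] [IsNoetherian Y] (f : X ⟶ Y) [IsSeparated f] [LocallyOfFiniteType f], IsOpen {x : X | P (X.fromSpecStalk x ≫ f)})
    {X Y : Scheme.{u}} [IsNoetherian X] [IsNoetherian Y] (f : X ⟶ Y) [IsSeparated f] [EssFT.EssFiniteType f] :
    ((∀ x : X, P (X.fromSpecStalk x ≫ f)) → P f) ∧ IsOpen {x : X | P (X.fromSpecStalk x ≫ f)} ∧
      (P f → ∃ (Z : Scheme.{u}) (i : X ⟶ Z) (h : Z ⟶ Y), IsNoetherian Z ∧ LocImm.IsLocImmersion i ∧ IsSeparated h ∧ LocallyOfFiniteType h ∧ QuasiCompact h ∧ P h ∧ i ≫ h = f) := by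
  obtain ⟨Z, k, h, hZ, hk, hsep, hlft, hqc, hkh⟩ := exists_locImmersion_finiteType f
  subst hkh
  haveI := LocImmB.flat hk.1
  haveI := LocImmB.surjectiveOnStalks hk.1
  have hess : ∀ {A B : Scheme.{u}} [IsNoetherian A] [IsNoetherian B] (g : A ⟶ B) [LocallyOfFiniteType g],
      EssFT.EssFiniteType g := fun {A B} _ _ g _ => by
    haveI := locallyEssFiniteType_comp (isLocImmersion_of_isOpenImmersion (𝟙 A)) g
    rw [Category.id_comp] at this
    exact { toLocallyEssFiniteType := this, toQuasiCompact := inferInstance }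
  have hcancel : ∀ {A B : Scheme.{u}} [IsNoetherian A] [IsNoetherian B] (e : A ≅ B) (g : B ⟶ Y) [IsSeparated g]
      [EssFT.EssFiniteType g], P g → P (e.hom ≫ g) := fun e g _ _ hg =>
    hα e.hom g (isLocImmersion_of_isOpenImmersion e.hom) hg
  have hessS : ∀ z : Z, IsSeparated (Z.fromSpecStalk z ≫ h) ∧ EssFT.EssFiniteType (Z.fromSpecStalk z ≫ h) := fun z => by
    haveI := isNoetherian_spec_stalk z
    exact ⟨inferInstance, { toLocallyEssFiniteType := locallyEssFiniteType_comp (isLocImmersion_fromSpecStalk z) h,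
                            toQuasiCompact := inferInstance }⟩
  have heq : ∀ x : X, P (X.fromSpecStalk x ≫ k ≫ h) ↔ P (Z.fromSpecStalk (k x) ≫ h) := fun x => by
    haveI := LocImmB.isIso_stalkMap k x
    haveI := isNoetherian_spec_stalk x
    haveI := isNoetherian_spec_stalk (k x)
    have e : X.fromSpecStalk x ≫ k ≫ h = (asIso (Spec.map (k.stalkMap x))).hom ≫ Z.fromSpecStalk (k x) ≫ h := by
      rw [asIso_hom, Scheme.SpecMap_stalkMap_fromSpecStalk_assoc]
    constructor
    · intro hp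
      haveI : IsSeparated (X.fromSpecStalk x ≫ k ≫ h) := inferInstance
      haveI : EssFT.EssFiniteType (X.fromSpecStalk x ≫ k ≫ h) :=
        { toLocallyEssFiniteType := by
            rw [← Category.assoc]
            exact locallyEssFiniteType_comp (isLocImmersion_comp (isLocImmersion_fromSpecStalk x) hk) h
          toQuasiCompact := inferInstance }
      have := hcancel (asIso (Spec.map (k.stalkMap x))).symm (X.fromSpecStalk x ≫ k ≫ h) hp
      rw [e, Iso.symm_hom, Iso.inv_hom_id_assoc] at this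
      exact this
    · intro hp
      obtain ⟨h1, h2⟩ := hessS (k x)
      rw [e]
      exact hcancel _ _ hp
  let O : Z.Opens := ⟨{z | P (Z.fromSpecStalk z ≫ h)}, hβ₂ h⟩
  have hset : {x : X | P (X.fromSpecStalk x ≫ k ≫ h)} = (k ⁻¹ᵁ O : X.Opens) := Set.ext fun x => heq x
  haveI : IsNoetherian O.toScheme := isNoetherian_opens O
  have hPO : P (O.ι ≫ h) := hβ₁ (O.ι ≫ h) fun z => by
    haveI := isNoetherian_spec_stalk z
    haveI := isNoetherian_spec_stalk (O.ι z)
    obtain ⟨h1, h2⟩ := hessS (O.ι z)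
    have hz : P (Z.fromSpecStalk (O.ι z) ≫ h) := z.2
    have := hcancel (asIso (Spec.map (O.ι.stalkMap z))) _ hz
    rwa [asIso_hom, Scheme.SpecMap_stalkMap_fromSpecStalk_assoc] at this
  haveI : LocallyOfFiniteType (O.ι ≫ h) := inferInstance
  have hfac : (∀ x : X, P (X.fromSpecStalk x ≫ k ≫ h)) →
      ∃ i : X ⟶ O.toScheme, LocImm.IsLocImmersion i ∧ i ≫ O.ι = k := fun hall => by
    have hr : Set.range k ⊆ Set.range O.ι := by
      rintro _ ⟨x, rfl⟩; rw [Scheme.Opens.range_ι]; exact (heq x).1 (hall x)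
    exact ⟨_, isLocImmersion_lift k hk O hr, IsOpenImmersion.lift_fac _ _ _⟩
  refine ⟨fun hall => ?_, by rw [hset]; exact (k ⁻¹ᵁ O).2, fun hf => ?_⟩
  · obtain ⟨i, hi, hik⟩ := hfac hall
    haveI := hess (O.ι ≫ h)
    rw [← hik, Category.assoc]
    exact hα i _ hi hPO
  · obtain ⟨i, hi, hik⟩ := hfac fun x => by
      haveI := isNoetherian_spec_stalk x
      exact hα _ _ (isLocImmersion_fromSpecStalk x) hf
    exact ⟨O, i, O.ι ≫ h, inferInstance, hi, inferInstance, inferInstance, inferInstance, hPO, by rw [reassoc_of% hik]⟩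

theorem exists_locImmersion_finite {X Y : Scheme.{u}} [IsNoetherian X] [IsNoetherian Y] (f : X ⟶ Y) [IsSeparated f]
    [EssFT.EssFiniteType f] [LocallyQuasiFinite f] :
    ∃ (Z : Scheme.{u}) (i : X ⟶ Z) (h : Z ⟶ Y), IsNoetherian Z ∧ LocImm.IsLocImmersion i ∧ IsFinite h ∧ i ≫ h = f := by
  obtain ⟨Z, k, h, hZ, hk, hsep, hlft, hqc, hkh⟩ := exists_locImmersion_finiteType f
  haveI := LocImmB.flat hk.1
  haveI := LocImmB.surjectiveOnStalks hk.1
  let O := h.quasiFiniteLocus
  have hr : Set.range k ⊆ Set.range O.ι := by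
    rintro _ ⟨x, rfl⟩
    rw [Scheme.Opens.range_ι]
    haveI := LocImmB.isIso_stalkMap k x
    have h1 : (f.stalkMap x).hom.QuasiFinite := f.quasiFiniteAt x
    have h2 : ((k ≫ h).stalkMap x).hom.QuasiFinite := by subst hkh; exact h1
    rw [Scheme.Hom.stalkMap_comp] at h2
    exact Scheme.Hom.mem_quasiFiniteLocus.2 ((RingHom.QuasiFinite.respectsIso.cancel_right_isIso _ _).1 h2)
  haveI : IsNoetherian O.toScheme := isNoetherian_opens O
  obtain ⟨T, j, π, hj, -, hπ, hjπ⟩ := exists_openImmersion_finite (O.ι ≫ h)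
  haveI : IsLocallyNoetherian T := LocallyOfFiniteType.isLocallyNoetherian π
  haveI : CompactSpace T := QuasiCompact.compactSpace_of_compactSpace π
  haveI : IsNoetherian T := ⟨⟩
  refine ⟨T, IsOpenImmersion.lift O.ι k hr ≫ j, π, inferInstance,
    isLocImmersion_comp (isLocImmersion_lift k hk O hr) (isLocImmersion_of_isOpenImmersion j), hπ, ?_⟩
  rw [Category.assoc, hjπ, IsOpenImmersion.lift_fac_assoc, hkh]

end Groth.Agent.LocImmFT
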